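import Mathlib
import Cfsg.Agent.Lib.DefectOne.Jordan

/-!
# A `sl₂`-structure on a module free over `k[N]/N^{r+1}`

`D = ⨁_{m ≤ r} N^m U`.  We define `E (N^{m+1} u) = (m+1)(m-r) N^m u`, `E u = 0`, and
`H (N^m u) = (r - 2m) N^m u`.
-/

set_option autoImplicit false
set_option linter.unusedSectionVars false

namespace Cfsg.Agent.Lib.BrauerTuan

open Module Cfsg.Agent.Lib.DefectOne

variable {k : Type*} [Field k] {D : Type*} [AddCommGroup D] [Module k D]

/-- `D` is free over `k[N]/N^{r+1}` on `U`. -/
structure Graded (N : End k D) (U : Submodule k D) (r : ℕ) : Prop where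
  pow : N ^ (r + 1) = 0
  inj : ∀ u ∈ U, (N ^ r) u = 0 → u = 0
  span : ∀ v : D, v ∈ polySpan N U (r + 1)

variable {N : End k D} {U : Submodule k D} {r : ℕ}

namespace Graded

lemma pow_apply_of_le (hG : Graded N U r) {m : ℕ} (hm : r < m) (v : D) : (N ^ m) v = 0 := by
  obtain ⟨a, rfl⟩ : ∃ a, m = a + (r + 1) := ⟨m - (r + 1), by omega⟩
  rw [pow_add, hG.pow, mul_zero]
  rfl

/-- Extensionality. -/
lemma ext (hG : Graded N U r) {T T' : End k D} (h : ∀ m, m ≤ r → ∀ u ∈ U, T ((N ^ m) u) = T' ((N ^ m) u)) :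
    T = T' := by
  refine LinearMap.ext fun v => ?_
  obtain ⟨c, hc, rfl⟩ := hG.span v
  rw [map_sum, map_sum]
  refine Finset.sum_congr rfl fun j hj => ?_
  exact h j (Nat.lt_succ_iff.1 (Finset.mem_range.1 hj)) _ (hc j)

/-- The coordinates map. -/
noncomputable def phi (N : End k D) (U : Submodule k D) (r : ℕ) : (Fin (r + 1) → U) →ₗ[k] D :=
  ∑ j : Fin (r + 1), (N ^ (j : ℕ)) ∘ₗ U.subtype ∘ₗ (LinearMap.proj j)

lemma phi_apply (c : Fin (r + 1) → U) : phi N U r c = ∑ j : Fin (r + 1), (N ^ (j : ℕ)) (c j : D) := by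
  simp [phi, LinearMap.sum_apply]

lemma phi_single (j : Fin (r + 1)) (u : U) : phi N U r (Pi.single j u) = (N ^ (j : ℕ)) (u : D) := by
  classical
  rw [phi_apply, Finset.sum_eq_single j]
  · simp
  · intro b _ hb
    simp [Pi.single_eq_of_ne hb]
  · intro h
    exact absurd (Finset.mem_univ j) h

lemma phi_injective (hpow : N ^ (r + 1) = 0) (hinj : ∀ u ∈ U, (N ^ r) u = 0 → u = 0) :
    Function.Injective (phi N U r) := by
  classical
  rw [injective_iff_map_eq_zero]
  intro c hc
  rw [phi_apply] at hc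
  let c' : ℕ → D := fun j => if h : j < r + 1 then (c ⟨j, h⟩ : D) else 0
  have hc' : ∀ j, c' j ∈ U := by
    intro j
    simp only [c']
    split_ifs with h
    · exact (c ⟨j, h⟩).2
    · exact U.zero_mem
  have h0 : ∑ j ∈ Finset.range (r + 1), (N ^ j) (c' j) = 0 := by
    rw [Finset.sum_range]
    rw [← hc]
    refine Finset.sum_congr rfl fun j _ => ?_
    have hj : (j : ℕ) < r + 1 := j.2
    simp only [c', dif_pos hj]
  have h1 := poly_indep (E := 1) (y := N) (U := U) (s := r) (fun u _ => rfl)
    (by rw [mul_one]; exact hpow) hinj hc' h0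
  funext j
  have h2 := h1 j (Nat.lt_succ_iff.1 j.2)
  simp only [c', j.2, dif_pos] at h2
  exact Subtype.ext h2

lemma phi_bijective (hG : Graded N U r) : Function.Bijective (phi N U r) := by
  classical
  constructor
  · exact phi_injective hG.pow hG.inj
  · intro v
    obtain ⟨c, hc, rfl⟩ := hG.span v
    refine ⟨fun j => ⟨c j, hc j⟩, ?_⟩
    rw [phi_apply, Finset.sum_range]

/-- The coordinates equivalence. -/
noncomputable def phiEquiv (hG : Graded N U r) : (Fin (r + 1) → U) ≃ₗ[k] D :=
  LinearEquiv.ofBijective (phi N U r) (phi_bijective hG)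

lemma phiEquiv_symm (hG : Graded N U r) (j : Fin (r + 1)) (u : U) :
    (phiEquiv hG).symm ((N ^ (j : ℕ)) (u : D)) = Pi.single j u := by
  rw [LinearEquiv.symm_apply_eq]
  exact (phi_single j u).symm

/-- Graded operators. -/
theorem exists_graded (hG : Graded N U r) (τ : ℕ → U →ₗ[k] D) :
    ∃ T : End k D, ∀ m, m ≤ r → ∀ u : U, T ((N ^ m) (u : D)) = τ m u := by
  classical
  let T₀ : (Fin (r + 1) → U) →ₗ[k] D := ∑ j : Fin (r + 1), (τ j) ∘ₗ (LinearMap.proj j)
  refine ⟨T₀ ∘ₗ (phiEquiv hG).symm.toLinearMap, fun m hm u => ?_⟩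
  have h1 := phiEquiv_symm hG ⟨m, Nat.lt_succ_iff.2 hm⟩ u
  simp only at h1
  rw [LinearMap.comp_apply, LinearEquiv.coe_coe, h1]
  simp only [T₀, LinearMap.sum_apply, LinearMap.comp_apply, LinearMap.proj_apply]
  rw [Finset.sum_eq_single ⟨m, Nat.lt_succ_iff.2 hm⟩]
  · simp
  · intro b _ hb
    simp [Pi.single_eq_of_ne hb]
  · intro h
    exact absurd (Finset.mem_univ _) h

lemma finrank_eq [FiniteDimensional k D] (hG : Graded N U r) : finrank k D = (r + 1) * finrank k U := by
  rw [← (phiEquiv hG).finrank_eq, Module.finrank_pi_fintype]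
  simp

/-- `Graded` from a dimension count. -/
theorem of_finrank [FiniteDimensional k D] (hpow : N ^ (r + 1) = 0) (hinj : ∀ u ∈ U, (N ^ r) u = 0 → u = 0)
    (hdim : finrank k D = (r + 1) * finrank k U) : Graded N U r := by
  classical
  refine ⟨hpow, hinj, fun v => ?_⟩
  have h1 : finrank k (Fin (r + 1) → U) = finrank k D := by
    rw [hdim, Module.finrank_pi_fintype]
    simp
  have hsurj := (LinearMap.injective_iff_surjective_of_finrank_eq_finrank h1).1 (phi_injective hpow hinj)
  obtain ⟨c, rfl⟩ := hsurj v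
  rw [phi_apply]
  refine ⟨fun j => if h : j < r + 1 then (c ⟨j, h⟩ : D) else 0, fun j => ?_, ?_⟩
  · simp only
    split_ifs with h
    · exact (c ⟨j, h⟩).2
    · exact U.zero_mem
  · rw [Finset.sum_range]
    refine Finset.sum_congr rfl fun j _ => ?_
    have hj : (j : ℕ) < r + 1 := j.2
    simp only [dif_pos hj]

/-- The trace of a diagonal operator. -/
theorem trace_of_diag [FiniteDimensional k D] (hG : Graded N U r) {T : End k D} (c : ℕ → k)
    (hT : ∀ m, m ≤ r → ∀ u ∈ U, T ((N ^ m) u) = c m • (N ^ m) u) :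
    LinearMap.trace k D T = (finrank k U : k) * ∑ m ∈ Finset.range (r + 1), c m := by
  classical
  -- the projections
  have hπ : ∀ j : ℕ, j ≤ r → ∃ π : End k D, (∀ m, m ≤ r → ∀ u : U, π ((N ^ m) (u : D)) =
      if m = j then (N ^ m) (u : D) else 0) ∧ LinearMap.trace k D π = (finrank k U : k) := by
    intro j hj
    obtain ⟨π, hπ⟩ := exists_graded hG (fun m => if m = j then (N ^ m) ∘ₗ U.subtype else 0)
    have hπ' : ∀ m, m ≤ r → ∀ u : U, π ((N ^ m) (u : D)) =
        if m = j then (N ^ m) (u : D) else 0 := by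
      intro m hm u
      rw [hπ m hm u]
      split_ifs <;> simp
    refine ⟨π, hπ', ?_⟩
    let W : Submodule k D := U.map (N ^ j)
    have hproj : LinearMap.IsProj W π := by
      constructor
      · intro v
        obtain ⟨c, hc, rfl⟩ := hG.span v
        rw [map_sum]
        refine W.sum_mem fun i hi => ?_
        have hi' := Nat.lt_succ_iff.1 (Finset.mem_range.1 hi)
        have := hπ' i hi' ⟨c i, hc i⟩
        simp only at this
        rw [this]
        split_ifs with hij
        · subst hij
          exact ⟨c i, hc i, rfl⟩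
        · exact W.zero_mem
      · rintro _ ⟨u, hu, rfl⟩
        have := hπ' j hj ⟨u, hu⟩
        simpa using this
    rw [hproj.trace]
    congr 1
    have hinj : Function.Injective ((N ^ j) ∘ₗ U.subtype) := by
      rw [injective_iff_map_eq_zero]
      rintro ⟨u, hu⟩ h0
      apply Subtype.ext
      apply hG.inj u hu
      have h1 : (N ^ j) u = 0 := h0
      have h2 : r = (r - j) + j := by omega
      rw [h2, pow_add, Module.End.mul_apply, h1, map_zero]
    have h3 := LinearMap.finrank_range_of_inj hinj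
    have h4 : LinearMap.range ((N ^ j) ∘ₗ U.subtype) = W := by
      rw [LinearMap.range_comp, Submodule.range_subtype]
    rw [h4] at h3
    norm_cast
  choose! π hπ1 hπ2 using hπ
  have hsum : T = ∑ j ∈ Finset.range (r + 1), c j • π j := by
    apply hG.ext
    intro m hm u hu
    rw [LinearMap.sum_apply, hT m hm u hu]
    rw [Finset.sum_eq_single m]
    · rw [LinearMap.smul_apply]
      have := hπ1 m hm m hm ⟨u, hu⟩
      simp only [if_true] at this
      rw [this]
    · intro b hb hbm
      rw [LinearMap.smul_apply]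
      have := hπ1 b (Nat.lt_succ_iff.1 (Finset.mem_range.1 hb)) m hm ⟨u, hu⟩
      simp only [Ne.symm hbm, if_false] at this
      rw [this, smul_zero]
    · intro h
      exact absurd (Finset.mem_range.2 (Nat.lt_succ_iff.2 hm)) h
  rw [hsum, map_sum, Finset.mul_sum]
  refine Finset.sum_congr rfl fun j hj => ?_
  rw [map_smul, hπ2 j (Nat.lt_succ_iff.1 (Finset.mem_range.1 hj)), smul_eq_mul, mul_comm]

end Graded

/-- The `sl₂`-triple of a graded module. -/
structure Triple (N : End k D) (U : Submodule k D) (r : ℕ) (E H : End k D) : Prop where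
  E0 : ∀ u ∈ U, E u = 0
  Es : ∀ m : ℕ, ∀ u ∈ U, E ((N ^ (m + 1)) u) = (((m : k) + 1) * ((m : k) - r)) • (N ^ m) u
  Hs : ∀ m : ℕ, ∀ u ∈ U, H ((N ^ m) u) = ((r : k) - 2 * m) • (N ^ m) u

theorem exists_triple (hG : Graded N U r) : ∃ E H : End k D, Triple N U r E H := by
  classical
  obtain ⟨E, hE⟩ := hG.exists_graded (fun m => if m = 0 then 0 else
    (((m : k)) * ((m : k) - (r + 1))) • ((N ^ (m - 1)) ∘ₗ U.subtype))
  obtain ⟨H, hH⟩ := hG.exists_graded (fun m => ((r : k) - 2 * m) • ((N ^ m) ∘ₗ U.subtype))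
  refine ⟨E, H, ⟨?_, ?_, ?_⟩⟩
  · intro u hu
    have := hE 0 (Nat.zero_le _) ⟨u, hu⟩
    simpa using this
  · intro m u hu
    by_cases hm : m + 1 ≤ r
    · have := hE (m + 1) hm ⟨u, hu⟩
      simp only [Nat.add_eq_zero_iff, one_ne_zero, and_false, if_false, Nat.add_sub_cancel] at this
      rw [this]
      simp only [LinearMap.smul_apply, LinearMap.comp_apply, Submodule.subtype_apply]
      congr 1
      push_cast
      ring
    · by_cases hmr : m = r
      · subst hmr
        have h1 : (N ^ (m + 1)) u = 0 := hG.pow_apply_of_le (by omega) u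
        rw [h1, map_zero]
        simp
      · have h1 : (N ^ (m + 1)) u = 0 := hG.pow_apply_of_le (by omega) u
        have h2 : (N ^ m) u = 0 := hG.pow_apply_of_le (by omega) u
        rw [h1, h2, map_zero, smul_zero]
  · intro m u hu
    by_cases hm : m ≤ r
    · have := hH m hm ⟨u, hu⟩
      rw [this]
      simp
    · have h2 : (N ^ m) u = 0 := hG.pow_apply_of_le (by omega) u
      rw [h2, map_zero, smul_zero]

namespace Triple

variable {E H : End k D}

lemma NH (hG : Graded N U r) (hT : Triple N U r E H) : N * H - H * N = (2 : k) • N := by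
  apply hG.ext
  intro m _ u hu
  simp only [LinearMap.sub_apply, Module.End.mul_apply, LinearMap.smul_apply]
  rw [hT.Hs m u hu, map_smul, ← Module.End.mul_apply N, ← pow_succ', hT.Hs (m + 1) u hu]
  rw [← sub_smul]
  congr 1
  push_cast
  ring

lemma NE (hG : Graded N U r) (hT : Triple N U r E H) : N * E - E * N = H := by
  apply hG.ext
  intro m _ u hu
  simp only [LinearMap.sub_apply, Module.End.mul_apply]
  rw [← Module.End.mul_apply N (N ^ m), ← pow_succ', hT.Es m u hu, hT.Hs m u hu]
  cases m with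
  | zero =>
    simp only [pow_zero, Module.End.one_apply, hT.E0 u hu, map_zero, zero_sub]
    rw [← neg_smul]
    congr 1
    push_cast
    ring
  | succ m =>
    rw [hT.Es m u hu, map_smul, ← Module.End.mul_apply N, ← pow_succ', ← sub_smul]
    congr 1
    push_cast
    ring

lemma sum_formula (r t : ℕ) :
    (6 : k) * ∑ m ∈ Finset.range t, (((m : k) + 1) * ((m : k) - r)) =
      (t : k) * ((t : k) + 1) * (2 * (t : k) - 3 * (r : k) - 2) := by
  induction t with
  | zero => simp
  | succ t ih =>
    rw [Finset.sum_range_succ, mul_add, ih]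
    push_cast
    ring

/-- The trace of `E N`. -/
lemma trace_EN [FiniteDimensional k D] (hG : Graded N U r) (hT : Triple N U r E H) :
    (6 : k) * LinearMap.trace k D (E * N) =
      -((finrank k U : k) * (r : k) * ((r : k) + 1) * ((r : k) + 2)) := by
  have h1 := hG.trace_of_diag (T := E * N) (fun m => ((m : k) + 1) * ((m : k) - r)) (by
    intro m _ u hu
    rw [Module.End.mul_apply, ← Module.End.mul_apply N, ← pow_succ']
    exact hT.Es m u hu)
  rw [h1, mul_left_comm, sum_formula]
  push_cast
  ring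

/-- Semilinearity of `E`. -/
lemma E_comm (hG : Graded N U r) (hT : Triple N U r E H) {W : End k D} {c : k} (hWN : W * N = c • (N * W))
    (hWU : ∀ u ∈ U, W u ∈ U) : E * W = c • (W * E) := by
  have hpow : ∀ m : ℕ, W * N ^ m = c ^ m • (N ^ m * W) := by
    intro m
    induction m with
    | zero => simp
    | succ m ih =>
      rw [pow_succ, ← mul_assoc, ih, smul_mul_assoc, mul_assoc, hWN, mul_smul_comm, smul_smul,
        ← mul_assoc, ← pow_succ, pow_succ c]
  apply hG.ext
  intro m _ u hu
  simp only [Module.End.mul_apply, LinearMap.smul_apply]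
  cases m with
  | zero =>
    simp only [pow_zero, Module.End.one_apply]
    rw [hT.E0 _ (hWU u hu), hT.E0 u hu, map_zero, smul_zero]
  | succ m =>
    have h1 : W ((N ^ (m + 1)) u) = c ^ (m + 1) • (N ^ (m + 1)) (W u) := by
      have := LinearMap.congr_fun (hpow (m + 1)) u
      simpa using this
    have h2 : W ((N ^ m) u) = c ^ m • (N ^ m) (W u) := by
      have := LinearMap.congr_fun (hpow m) u
      simpa using this
    rw [h1, map_smul, hT.Es m _ (hWU u hu), hT.Es m u hu, map_smul, h2, smul_smul, smul_smul, smul_smul,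
      pow_succ]
    congr 1
    ring

end Triple

end Cfsg.Agent.Lib.BrauerTuan
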