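import Cfsg.Agent.Lib.BrauerTuan.Core
import Cfsg.Agent.Lib.DefectOne.SimpleDim
import Cfsg.Prelude.Def_Blocks

/-!
# Reduction of the degree bound to irreducible faithful representations
-/

set_option autoImplicit false
set_option linter.unusedSectionVars false
set_option linter.style.haveILetI false

namespace Cfsg.Agent.Lib.BrauerTuan

open Module Matrix Subgroup Cfsg Cfsg.Agent.Lib.Char.Ortho Cfsg.Agent.Lib.DefectOne

universe u

variable {G : Type u} [Group G] [Finite G] {p : ℕ} [hp : Fact p.Prime]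

/-- A constituent of a faithful character which does not kill the `p`-structure. -/
theorem exists_quot_rep (hsq : ¬ p ^ 2 ∣ Nat.card G)
    (hnn : ∀ H : Subgroup G, H.Normal → Nat.card H ≠ p)
    {χ : G → ℂ} (hχ : IsCharacter G χ) (hfaith : ∀ g, χ g = χ 1 → g = 1) {x : G}
    (hx : orderOf x = p) :
    ∃ (n : ℕ) (R : G →* Matrix (Fin n) (Fin n) ℂ), 0 < n ∧ n ≤ charDegree χ ∧
      (∀ v : Fin n → ℂ, v ≠ 0 → Submodule.span ℂ (Set.range fun g => R g *ᵥ v) = ⊤) ∧
      orderOf (QuotientGroup.mk x : G ⧸ R.ker) = p ∧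
      ¬ (zpowers (QuotientGroup.mk x : G ⧸ R.ker)).Normal ∧
      (n = charDegree χ → Function.Injective R) := by
  classical
  obtain ⟨m, hm⟩ := exists_nat_decomp hχ
  choose d R hd hψ1 htr hspan using fun ψ : IrrCharacter G => exists_irr_matrix ψ.2
  have hval : ∀ g, χ g = ∑ ψ, (m ψ : ℂ) * (R ψ g).trace := by
    intro g
    rw [hm, Finset.sum_apply]
    refine Finset.sum_congr rfl fun ψ _ => ?_
    rw [Pi.smul_apply, nsmul_eq_mul, htr]
  have htr1 : ∀ ψ, (R ψ 1).trace = d ψ := by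
    intro ψ
    rw [map_one, Matrix.trace_one, Fintype.card_fin]
  have hone : χ 1 = ((∑ ψ, m ψ * d ψ : ℕ) : ℂ) := by
    rw [hval]
    push_cast
    refine Finset.sum_congr rfl fun ψ _ => ?_
    rw [htr1]
  have hdeg : charDegree χ = ∑ ψ, m ψ * d ψ := by
    unfold charDegree
    rw [hone, Complex.natCast_re, Nat.floor_natCast]
  set T : Subgroup G := normalClosure ({x} : Set G) with hT
  have hxT : x ∈ T := subset_normalClosure rfl
  have hTn : T.Normal := normalClosure_normal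
  have hTnp : ¬ IsPGroup p T := by
    intro hP
    apply hnn T hTn
    have h1 := eq_zpowers_of_isPGroup hx hsq hP ((zpowers_le).2 hxT)
    rw [← h1, Nat.card_zpowers, hx]
  have hex : ∃ ψ, m ψ ≠ 0 ∧ ∃ t ∈ T, ∀ a : ℕ, R ψ (t ^ p ^ a) ≠ 1 := by
    by_contra hcon
    push Not at hcon
    apply hTnp
    intro t
    choose! a ha using fun ψ (h : m ψ ≠ 0) => hcon ψ h t.1 t.2
    refine ⟨∑ ψ, a ψ, Subtype.ext ?_⟩
    show t.1 ^ p ^ (∑ ψ, a ψ) = 1
    apply hfaith
    rw [hval, hval]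
    refine Finset.sum_congr rfl fun ψ _ => ?_
    by_cases h0 : m ψ = 0
    · simp [h0]
    · have h2 : R ψ (t.1 ^ p ^ (∑ ψ, a ψ)) = 1 := by
        have hle : a ψ ≤ ∑ ψ, a ψ :=
          Finset.single_le_sum (f := a) (fun _ _ => Nat.zero_le _) (Finset.mem_univ ψ)
        obtain ⟨r, hr⟩ := Nat.exists_eq_add_of_le hle
        rw [hr, pow_add, pow_mul, map_pow, ha ψ h0, one_pow]
      rw [h2, map_one]
  obtain ⟨ψ, hψ0, t, htT, ht⟩ := hex
  have hmemK : ∀ g, (QuotientGroup.mk g : G ⧸ (R ψ).ker) = 1 ↔ R ψ g = 1 := by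
    intro g
    rw [QuotientGroup.eq_one_iff, MonoidHom.mem_ker]
  have hxp : x ^ p = 1 := by rw [← hx, pow_orderOf_eq_one]
  refine ⟨d ψ, R ψ, hd ψ, ?_, hspan ψ, ?_, ?_, ?_⟩
  · rw [hdeg]
    have h1 : m ψ * d ψ ≤ ∑ ψ, m ψ * d ψ :=
      Finset.single_le_sum (f := fun ψ => m ψ * d ψ) (fun _ _ => Nat.zero_le _) (Finset.mem_univ ψ)
    exact (Nat.le_mul_of_pos_left _ (Nat.pos_of_ne_zero hψ0)).trans h1
  · apply orderOf_eq_prime
    · rw [← QuotientGroup.mk_pow, hxp, QuotientGroup.mk_one]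
    · intro h1
      have h2 : x ∈ (R ψ).ker := (QuotientGroup.eq_one_iff x).1 h1
      have h3 : T ≤ (R ψ).ker := normalClosure_le_normal (by
        rintro _ rfl
        exact h2)
      have h4 := ht 0
      rw [pow_zero, pow_one] at h4
      exact h4 (h3 htT)
  · intro hN
    let π : G →* G ⧸ (R ψ).ker := QuotientGroup.mk' _
    haveI := hN
    have h2 : T ≤ (zpowers (QuotientGroup.mk x : G ⧸ (R ψ).ker)).comap π := normalClosure_le_normal (by
      rintro _ rfl
      exact mem_zpowers _)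
    have h3 : (QuotientGroup.mk t : G ⧸ (R ψ).ker) ∈ zpowers (QuotientGroup.mk x : G ⧸ (R ψ).ker) := h2 htT
    obtain ⟨i, hi⟩ := mem_zpowers_iff.1 h3
    have h4 : (QuotientGroup.mk t : G ⧸ (R ψ).ker) ^ p = 1 := by
      rw [← hi, ← zpow_natCast, ← _root_.zpow_mul, mul_comm, _root_.zpow_mul, zpow_natCast,
        ← QuotientGroup.mk_pow, hxp, QuotientGroup.mk_one, _root_.one_zpow]
    rw [← QuotientGroup.mk_pow, hmemK] at h4
    apply ht 1
    rw [pow_one]
    exact h4
  · intro hn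
    rw [hdeg] at hn
    have hsum : m ψ * d ψ + ∑ φ ∈ Finset.univ.erase ψ, m φ * d φ = d ψ := by
      exact (Finset.add_sum_erase Finset.univ (fun φ => m φ * d φ) (Finset.mem_univ ψ)).trans hn.symm
    have hm1 : m ψ = 1 := by
      have h1 : m ψ * d ψ ≤ 1 * d ψ := by omega
      have h2 := Nat.le_of_mul_le_mul_right h1 (hd ψ)
      omega
    have hzero : ∀ φ ∈ Finset.univ.erase ψ, m φ = 0 := by
      intro φ hφ
      have h1 : ∑ φ ∈ Finset.univ.erase ψ, m φ * d φ = 0 := by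
        rw [hm1] at hsum
        omega
      have h2 := (Finset.sum_eq_zero_iff.1 h1) φ hφ
      exact (mul_eq_zero.1 h2).resolve_right (hd φ).ne'
    have hvalψ : ∀ g, χ g = (R ψ g).trace := by
      intro g
      rw [hval, Finset.sum_eq_single ψ, hm1]
      · simp
      · intro φ _ hne
        rw [hzero φ (Finset.mem_erase.2 ⟨hne, Finset.mem_univ φ⟩)]
        simp
      · intro h
        exact absurd (Finset.mem_univ ψ) h
    rw [injective_iff_map_eq_one]
    intro g hg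
    apply hfaith
    rw [hvalψ, hvalψ, hg, map_one]

/-- The bound, from the output of the previous theorem. -/
theorem quot_bound {n : ℕ} (R : G →* Matrix (Fin n) (Fin n) ℂ) (hn : 0 < n)
    (hirr : ∀ v : Fin n → ℂ, v ≠ 0 → Submodule.span ℂ (Set.range fun g => R g *ᵥ v) = ⊤)
    (hsq : ¬ p ^ 2 ∣ Nat.card G) {x : G}
    (hxo : orderOf (QuotientGroup.mk x : G ⧸ R.ker) = p)
    (hxn : ¬ (zpowers (QuotientGroup.mk x : G ⧸ R.ker)).Normal) (hdim : 2 * n + 1 ≤ p) :
    p - 1 ≤ 2 * n ∧ 2 ≤ n := by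
  let R' : G ⧸ R.ker →* Matrix (Fin n) (Fin n) ℂ := QuotientGroup.lift R.ker R (le_refl _)
  have hR' : ∀ g : G, R' (QuotientGroup.mk g) = R g := fun g => rfl
  have hinj : Function.Injective R' := by
    intro a b hab
    obtain ⟨g, rfl⟩ := QuotientGroup.mk_surjective a
    obtain ⟨g', rfl⟩ := QuotientGroup.mk_surjective b
    rw [hR', hR'] at hab
    rw [QuotientGroup.eq, MonoidHom.mem_ker]
    have h1 : R g⁻¹ * R g = 1 := by rw [← map_mul, inv_mul_cancel, map_one]
    rw [map_mul, ← hab, h1]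
  have hsq' : ¬ p ^ 2 ∣ Nat.card (G ⧸ R.ker) := fun h =>
    hsq (h.trans (Subgroup.card_quotient_dvd_card _))
  have hirr' : ∀ v : Fin n → ℂ, v ≠ 0 →
      Submodule.span ℂ (Set.range fun g => R' g *ᵥ v) = ⊤ := by
    intro v hv
    rw [← hirr v hv]
    congr 1
    ext w
    constructor
    · rintro ⟨g, rfl⟩
      obtain ⟨g', rfl⟩ := QuotientGroup.mk_surjective g
      exact ⟨g', rfl⟩
    · rintro ⟨g, rfl⟩
      exact ⟨QuotientGroup.mk g, rfl⟩
  have hn2 : 2 ≤ n := by
    by_contra h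
    have h1 : n = 1 := by omega
    subst h1
    exact not_normal_of_one R' hinj hxn
  exact ⟨core_bound R' hinj hirr' hn hxo hsq' hxn hdim (by omega), hn2⟩

end Cfsg.Agent.Lib.BrauerTuan
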