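import Cfsg.Agent.Lib.BrauerTuan.GroupLemma

/-!
# The degree of a complex representation is at least the number of powers conjugate to `x`
-/

set_option autoImplicit false
set_option linter.unusedSectionVars false

namespace Cfsg.Agent.Lib.BrauerTuan

open Module

variable {Γ V : Type*} [Group Γ] [AddCommGroup V] [Module ℂ V] [FiniteDimensional ℂ V]
variable {p : ℕ} [hp : Fact p.Prime] {x : Γ}

/-- `y ^ p = 1`, `y ≠ 1` has an eigenvalue of order `p`. -/
lemma exists_eigen_prim {y : End ℂ V} (hyp : y ^ p = 1) (hy1 : y ≠ 1) :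
    ∃ (ω : ℂ) (u : V), u ≠ 0 ∧ y u = ω • u ∧ IsPrimitiveRoot ω p := by
  classical
  set Φ : End ℂ V := ∑ i ∈ Finset.range p, y ^ i with hΦ
  have hΦy : Φ * (y - 1) = 0 := by
    rw [hΦ, geom_sum_mul, hyp, sub_self]
  have hcomm : Φ * y = y * Φ := by
    rw [hΦ, Finset.sum_mul, Finset.mul_sum]
    refine Finset.sum_congr rfl fun i _ => ?_
    rw [← pow_succ, ← pow_succ']
  obtain ⟨v, hv⟩ : ∃ v, (y - 1) v ≠ 0 := by
    by_contra h
    push Not at h
    apply hy1
    have : y - 1 = 0 := LinearMap.ext h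
    exact sub_eq_zero.1 this
  set U : Submodule ℂ V := LinearMap.ker Φ with hU
  have hwU : (y - 1) v ∈ U := by
    rw [hU, LinearMap.mem_ker, ← Module.End.mul_apply, hΦy]
    rfl
  have hstab : ∀ u ∈ U, y u ∈ U := by
    intro u hu
    rw [hU, LinearMap.mem_ker] at hu ⊢
    rw [← Module.End.mul_apply, hcomm, Module.End.mul_apply, hu, map_zero]
  haveI : Nontrivial U := ⟨⟨⟨_, hwU⟩, 0, fun h => hv (congrArg Subtype.val h)⟩⟩
  let yU : End ℂ U := y.restrict hstab
  obtain ⟨ω, hω⟩ := Module.End.exists_eigenvalue yU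
  obtain ⟨u', hu'⟩ := hω.exists_hasEigenvector
  have h1 : yU u' = ω • u' := hu'.apply_eq_smul
  have h2 : y u'.1 = ω • u'.1 := congrArg Subtype.val h1
  have hu0 : u'.1 ≠ 0 := fun h => hu'.2 (Subtype.ext h)
  have hpow : ∀ i : ℕ, (y ^ i) u'.1 = ω ^ i • u'.1 := by
    intro i
    induction i with
    | zero => simp
    | succ i ih =>
      rw [pow_succ', Module.End.mul_apply, ih, map_smul, h2, smul_smul, pow_succ]
  have hωp : ω ^ p = 1 := by
    have h3 := hpow p
    rw [hyp, Module.End.one_apply] at h3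
    have h4 : (ω ^ p - 1) • u'.1 = 0 := by
      rw [sub_smul, ← h3, one_smul, sub_self]
    exact sub_eq_zero.1 ((smul_eq_zero.1 h4).resolve_right hu0)
  have hsum : ∑ i ∈ Finset.range p, ω ^ i = 0 := by
    have h3 : Φ u'.1 = 0 := u'.2
    rw [hΦ, LinearMap.sum_apply] at h3
    simp only [hpow] at h3
    rw [← Finset.sum_smul] at h3
    exact (smul_eq_zero.1 h3).resolve_right hu0
  have hω1 : ω ≠ 1 := by
    rintro rfl
    simp at hsum
    exact hp.out.ne_zero hsum
  refine ⟨ω, u'.1, hu0, h2, ?_⟩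
  have h3 : orderOf ω = p := orderOf_eq_prime hωp hω1
  rw [← h3]
  exact IsPrimitiveRoot.orderOf ω

/-- The degree bound. -/
theorem card_expSet_le (hx : orderOf x = p) (σ : Γ →* End ℂ V) (hσ : σ x ≠ 1) :
    (expSet x p).card ≤ finrank ℂ V := by
  classical
  have hyp : σ x ^ p = 1 := by
    rw [← map_pow, ← hx, pow_orderOf_eq_one, map_one]
  obtain ⟨ω, u, hu0, hu, hprim⟩ := exists_eigen_prim hyp hσ
  have hpow : ∀ i : ℕ, (σ x ^ i) u = ω ^ i • u := by
    intro i
    induction i with
    | zero => simp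
    | succ i ih =>
      rw [pow_succ', Module.End.mul_apply, ih, map_smul, hu, smul_smul, pow_succ]
  have hex : ∀ c : expSet x p, ∃ w : Γ, w * x * w⁻¹ = x ^ c.1 := fun c => (mem_expSet.1 c.2).2
  choose w hw using hex
  have hvec : ∀ c : expSet x p, (σ x).HasEigenvector (ω ^ c.1) (σ (w c)⁻¹ u) := by
    intro c
    rw [Module.End.hasEigenvector_iff]
    refine ⟨Module.End.mem_eigenspace_iff.2 ?_, ?_⟩
    · have h1 : x * (w c)⁻¹ = (w c)⁻¹ * (w c * x * (w c)⁻¹) := by group
      rw [← Module.End.mul_apply, ← map_mul, h1, hw c, map_mul, map_pow, Module.End.mul_apply, hpow,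
        map_smul]
    · intro h0
      apply hu0
      have h1 : σ (w c) (σ (w c)⁻¹ u) = u := by
        rw [← Module.End.mul_apply, ← map_mul, mul_inv_cancel, map_one, Module.End.one_apply]
      rw [← h1, h0, map_zero]
  have hinj : Function.Injective fun c : expSet x p => ω ^ c.1 := by
    intro c c' h
    exact Subtype.ext (hprim.pow_inj (mem_expSet.1 c.2).1 (mem_expSet.1 c'.2).1 h)
  have hli := Module.End.eigenvectors_linearIndependent' (σ x) _ hinj _ hvec
  have := hli.fintype_card_le_finrank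
  simpa using this

end Cfsg.Agent.Lib.BrauerTuan
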