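import Cfsg.Agent.Lib.PSL2.Members

/-!
# The Dickson partition of a finite subgroup of `PSL(2, F)`, `F` an arbitrary field of characteristic `p`
-/

set_option autoImplicit false
set_option linter.unusedSectionVars false

namespace Cfsg.Agent.Lib.BrauerTuan.DpGen

open Matrix Matrix.SpecialLinearGroup Subgroup
open scoped MatrixGroups
open Cfsg.Agent.Lib.PSL2.Basic Cfsg.Agent.Lib.PSL2.Conj Cfsg.Agent.Lib.PSL2.Unipotent
open Cfsg.Agent.Lib.PSL2.DPart Cfsg.Agent.Lib.PSL2.DCount Cfsg.Agent.Lib.PSL2.Members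

section Comp

variable {F : Type*} [Field F] {H : Subgroup PSL(2, F)} [Finite H]

lemma disc_eq_zero_of_isP (p : ℕ) [hp : Fact p.Prime] [CharP F p] {A : SL(2, F)} (hA : NC A)
    (hAH : mkP A ∈ H) (hP : IsP p (member H A)) : disc A = 0 := by
  by_contra hd
  have h1 := cop_of_disc (H := H) p hA hd
  obtain ⟨r, hr⟩ := IsPGroup.iff_card.1 hP.pgroup
  rcases Nat.eq_zero_or_pos r with rfl | hr0
  · rw [pow_zero] at hr
    have h2 := Subgroup.eq_bot_of_card_eq _ hr
    have ha := self_mem_member hAH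
    rw [h2, Subgroup.mem_bot] at ha
    exact mkP_ne_one hA (congrArg Subtype.val ha)
  · apply h1
    rw [hr]
    exact dvd_pow_self p hr0.ne'

lemma exists_frame {A : SL(2, F)} (hA : NC A) (hd : disc A = 0) :
    ∃ (g : SL(2, F)) (ε : F) (hε : ε ≠ 0) (s : F), T g A = b ε hε s ∧ s ≠ 0 ∧ ε * ε = 1 := by
  have key : ∃ ε : F, IsEig A ε ∧ ε * ε = 1 := by
    rcases tr_cases_of_disc hd with h | h
    · exact ⟨1, by unfold IsEig; rw [h]; ring, by ring⟩
    · exact ⟨-1, by unfold IsEig; rw [h]; ring, by ring⟩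
  obtain ⟨ε, hε, hε2⟩ := key
  obtain ⟨g, s, hg⟩ := exists_conj_b hε
  refine ⟨g, ε, hε.ne_zero, s, hg, ?_, hε2⟩
  rintro rfl
  have hεi : ε⁻¹ = ε := inv_eq_of_mul_eq_one_left hε2
  have h1 : (ε - 1) * (ε + 1) = 0 := by linear_combination hε2
  rcases mul_eq_zero.1 h1 with h2 | h2
  · apply hA.1
    have h3 : ε = 1 := by linear_combination h2
    apply T_inj g
    rw [T_one]
    show g * A * g⁻¹ = 1
    rw [hg]
    apply ext2 <;> simp [h3]
  · apply hA.2
    have h3 : ε = -1 := by linear_combination h2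
    apply T_inj g
    rw [T_neg, T_one]
    show g * A * g⁻¹ = -1
    rw [hg]
    apply ext2 <;> simp [h3]

/-- A chosen lift. -/
noncomputable def lft (x : PSL(2, F)) : SL(2, F) := (mkP_surjective x).choose

lemma mkP_lft (x : PSL(2, F)) : mkP (lft x) = x := (mkP_surjective x).choose_spec

/-- The homomorphism from a group of upper triangular elements to the units. -/
noncomputable def chiHom (g : SL(2, F)) (Q : Subgroup H) (hU : ∀ y : Q, Up g (lft y.1.1)) :
    Q →* Fˣ :=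
  MonoidHom.mk' (fun y => Units.mk0 ((ch g (lft y.1.1)) ^ 2) (pow_ne_zero _ (ch_ne_zero (hU y)))) (by
    intro y z
    apply Units.ext
    simp only [Units.val_mk0, Units.val_mul]
    have h1 : mkP (lft (y * z).1.1) = mkP (lft y.1.1 * lft z.1.1) := by
      rw [map_mul, mkP_lft, mkP_lft, mkP_lft]
      rfl
    rw [sq_ch_of_mkP_eq h1, ch_mul (hU z)]
    ring)

lemma chiHom_apply (g : SL(2, F)) (Q : Subgroup H) (hU : ∀ y : Q, Up g (lft y.1.1)) (y : Q)
    {Y : SL(2, F)} (hY : mkP Y = y.1.1) : ((chiHom g Q hU y : Fˣ) : F) = ch g Y ^ 2 := by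
  have : mkP (lft y.1.1) = mkP Y := by rw [mkP_lft, hY]
  exact sq_ch_of_mkP_eq this

theorem comp_aux (p : ℕ) [hp : Fact p.Prime] [CharP F p] {A : SL(2, F)} (hA : NC A)
    (hd : disc A = 0) (hAH : mkP A ∈ H)
    (hne : (normalizer (member H A : Set H) : Subgroup H) ≠ member H A) :
    ∃ Y : SL(2, F), NC Y ∧ mkP Y ∈ H ∧ disc Y ≠ 0 ∧
      member H Y ≤ normalizer (member H A : Set H) ∧
      Nat.card (member H Y) = (member H A).relIndex (normalizer (member H A : Set H)) := by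
  classical
  obtain ⟨g, ε, hε, s, hg, hs, hε2⟩ := exists_frame hA hd
  set M := member H A with hM
  set Q : Subgroup H := normalizer (M : Set H) with hQ
  have hmemM : ∀ {x : H} {X : SL(2, F)}, mkP X = x.1 → (x ∈ M ↔ Up g X ∧ ch g X ^ 2 = 1) := by
    intro x X hX
    rw [hM, mem_member hX, commute_iff hg hs hε2]
  have hUY : ∀ (y : H) (Y : SL(2, F)), y ∈ Q → mkP Y = y.1 → Up g Y := by
    intro y Y hy hY
    have ha := self_mem_member hAH
    have hmem := (Subgroup.mem_normalizer_iff.1 hy _).1 ha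
    have h2 := (mem_member (lift_conj (x := ⟨mkP A, hAH⟩) rfl hY)).1 hmem
    exact up_of_conj_commute hg hs hε2 h2
  have hU : ∀ y : Q, Up g (lft y.1.1) := fun y => hUY y.1 _ y.2 (mkP_lft _)
  let f : Q →* Fˣ := chiHom g Q hU
  haveI hfr : Finite f.range := Finite.of_surjective f.rangeRestrict f.rangeRestrict_surjective
  have hker : f.ker = M.subgroupOf Q := by
    ext y
    rw [MonoidHom.mem_ker, Subgroup.mem_subgroupOf, hmemM (mkP_lft y.1.1)]
    constructor
    · intro h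
      refine ⟨hU y, ?_⟩
      have := congrArg (fun u : Fˣ => (u : F)) h
      simpa [f, chiHom] using this
    · rintro ⟨-, h⟩
      apply Units.ext
      simpa [f, chiHom] using h
  have hcardker : Nat.card f.ker = Nat.card M := by
    rw [hker]
    exact Nat.card_congr (Subgroup.subgroupOfEquivOfLe (le_normalizer)).toEquiv
  have hindex : f.ker.index = M.relIndex Q := by
    rw [hker]
    rfl
  have hpM : IsPGroup p M := (isP_member p hA hd).pgroup
  obtain ⟨r, hr⟩ := IsPGroup.iff_card.1 hpM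
  have hpk : ¬ p ∣ f.ker.index := by
    rw [Subgroup.index_ker]
    intro h
    obtain ⟨u, hu⟩ := exists_prime_orderOf_dvd_card' (G := f.range) p h
    have h1 : ((u.1 : Fˣ) : F) ^ p = 1 := by
      have h2 : u ^ p = 1 := by rw [← hu, pow_orderOf_eq_one]
      have h3 : (u.1 : Fˣ) ^ p = 1 := congrArg Subtype.val h2
      have h4 := congrArg (fun w : Fˣ => (w : F)) h3
      simpa using h4
    have h2 : (((u.1 : Fˣ) : F) - 1) ^ p = 0 := by
      rw [sub_pow_char, h1, one_pow, sub_self]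
    have h3 : ((u.1 : Fˣ) : F) = 1 := sub_eq_zero.1 (pow_eq_zero_iff hp.out.ne_zero |>.1 h2)
    have h4 : u = 1 := Subtype.ext (Units.ext h3)
    rw [h4, orderOf_one] at hu
    exact hp.out.one_lt.ne hu
  have hco : Nat.Coprime (Nat.card f.ker) f.ker.index := by
    rw [hcardker, hr]
    exact Nat.Coprime.pow_left r ((Nat.Prime.coprime_iff_not_dvd hp.out).2 hpk)
  obtain ⟨y', hoy, hofy⟩ := exists_elem_order f hco
  have hk1 : f.ker.index ≠ 1 := by
    rw [hindex]
    intro h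
    rw [Subgroup.relIndex_eq_one] at h
    exact hne (le_antisymm h le_normalizer)
  -- the element
  have hy'1 : (y'.1 : H) ≠ 1 := by
    intro h
    have : y' = 1 := Subtype.ext h
    rw [this, orderOf_one] at hoy
    exact hk1 hoy.symm
  have hfy'1 : ((f y' : Fˣ) : F) ≠ 1 := by
    intro h
    have : f y' = 1 := Units.ext h
    rw [this, orderOf_one] at hofy
    exact hk1 hofy.symm
  obtain ⟨Y, hY⟩ := exists_lift y'.1
  have hYNC : NC Y := nc_of_lift hY hy'1
  have hYH : mkP Y ∈ H := by rw [hY]; exact y'.1.2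
  have hYU : Up g Y := hUY _ _ y'.2 hY
  have hch : ch g Y ^ 2 ≠ 1 := by
    have := chiHom_apply g Q hU y' hY
    rw [← this]
    exact hfy'1
  have hchne : ch g Y ≠ (ch g Y)⁻¹ := by
    intro h
    apply hch
    have h0 := ch_ne_zero hYU
    rw [pow_two]
    nth_rewrite 1 [h]
    exact inv_mul_cancel₀ h0
  have hdY : disc Y ≠ 0 := by
    unfold disc
    rw [tr_of_up hYU]
    have h0 := ch_ne_zero hYU
    intro h
    have h1 : (ch g Y - (ch g Y)⁻¹) ^ 2 = 0 := by
      have h2 : ch g Y * (ch g Y)⁻¹ = 1 := mul_inv_cancel₀ h0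
      linear_combination h - 4 * h2
    exact hchne (sub_eq_zero.1 (pow_eq_zero_iff two_ne_zero |>.1 h1))
  have hUN : ∀ (z : H) (Z : SL(2, F)), z ∈ member H Y → mkP Z = z.1 → Up g Z := by
    intro z Z hz hZ
    exact up_of_commute_up hYU hchne ((mem_member hZ).1 hz)
  have hNQ : member H Y ≤ Q := by
    intro z hz
    obtain ⟨Z, hZ⟩ := exists_lift z
    have hZU := hUN z Z hz hZ
    have key : ∀ (u : H) (U : SL(2, F)), mkP U = u.1 → Up g U → ∀ n ∈ M, u * n * u⁻¹ ∈ M := by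
      intro u U hu hUU n hn
      obtain ⟨N, hN⟩ := exists_lift n
      rw [hM, mem_member (lift_conj hN hu)]
      exact commute_conj_of_up hg hs hε2 hUU ((mem_member hN).1 hn)
    rw [hQ, Subgroup.mem_normalizer_iff]
    intro n
    refine ⟨key z Z hZ hZU n, fun h => ?_⟩
    have h1 := key z⁻¹ Z⁻¹ (lift_inv hZ) (up_inv hZU) _ h
    have h2 : z⁻¹ * (z * n * z⁻¹) * z⁻¹⁻¹ = n := by group
    rwa [h2] at h1
  refine ⟨Y, hYNC, hYH, hdY, hNQ, ?_⟩
  -- the order
  have hfinj : ∀ z : H, ∀ hz : z ∈ member H Y, f ⟨z, hNQ hz⟩ = 1 → z = 1 := by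
    intro z hz hfz
    by_contra hz1
    obtain ⟨Z, hZ⟩ := exists_lift z
    have hZNC := nc_of_lift hZ hz1
    have h1 : z ∈ M := by
      have : (⟨z, hNQ hz⟩ : Q) ∈ f.ker := hfz
      rw [hker, Subgroup.mem_subgroupOf] at this
      exact this
    have h2 := (mem_member hZ).1 h1
    have h3 := (mem_member hZ).1 hz
    have h4 : A * Y = Y * A := commute_of_commute hZNC h2.symm h3.symm
    have h5 : y'.1 ∈ M := (mem_member hY).2 h4
    rw [hmemM hY] at h5
    exact hch h5.2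
  have hle : Nat.card (member H Y) ≤ Nat.card f.range := by
    apply Nat.card_le_card_of_injective
      (fun z : member H Y => (⟨f ⟨z.1, hNQ z.2⟩, ⟨_, rfl⟩⟩ : f.range))
    intro z₁ z₂ h
    have h1 : f ⟨z₁.1, hNQ z₁.2⟩ = f ⟨z₂.1, hNQ z₂.2⟩ := congrArg Subtype.val h
    have h2 : f ⟨(z₁ * z₂⁻¹).1, hNQ (z₁ * z₂⁻¹).2⟩ = 1 := by
      have : (⟨(z₁ * z₂⁻¹).1, hNQ (z₁ * z₂⁻¹).2⟩ : Q) = ⟨z₁.1, hNQ z₁.2⟩ * (⟨z₂.1, hNQ z₂.2⟩)⁻¹ := rfl
      rw [this, map_mul, map_inv, h1, mul_inv_cancel]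
    have h3 := hfinj _ (z₁ * z₂⁻¹).2 h2
    have h4 : z₁ * z₂⁻¹ = 1 := Subtype.ext h3
    exact mul_inv_eq_one.1 h4
  have hge : f.ker.index ∣ Nat.card (member H Y) := by
    have h1 : (⟨y'.1, (mem_member hY).2 rfl⟩ : member H Y) ^ orderOf y' = 1 := by
      apply Subtype.ext
      apply Subtype.ext
      have := pow_orderOf_eq_one y'
      exact congrArg (fun u : Q => (u.1 : H).1) this
    rw [← hoy]
    have h2 : orderOf y' = orderOf (⟨y'.1, (mem_member hY).2 rfl⟩ : member H Y) := by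
      exact (Subgroup.orderOf_coe y').symm.trans
        (Subgroup.orderOf_coe (⟨y'.1, (mem_member hY).2 rfl⟩ : member H Y))
    rw [h2]
    exact orderOf_dvd_natCard _
  rw [← hindex]
  apply le_antisymm
  · rw [Subgroup.index_ker]
    exact hle
  · exact Nat.le_of_dvd Nat.card_pos hge

end Comp

/-- The partition of a subgroup of `PSL(2, F)`. -/
noncomputable def dp {F : Type*} [Field F] (H : Subgroup PSL(2, F)) [Finite H] (p : ℕ)
    [Fact p.Prime] [CharP F p] : Dp H p where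
  mem := {M | ∃ A : SL(2, F), NC A ∧ mkP A ∈ H ∧ M = member H A}
  ne_bot := by
    rintro _ ⟨A, hA, hAH, rfl⟩ h
    have ha := self_mem_member hAH
    rw [h, Subgroup.mem_bot] at ha
    exact mkP_ne_one hA (congrArg Subtype.val ha)
  comm := by
    rintro _ ⟨A, hA, hAH, rfl⟩ a ha c hc
    obtain ⟨X, hX⟩ := exists_lift a
    obtain ⟨Z, hZ⟩ := exists_lift c
    have h1 := commute_of_commute hA ((mem_member hX).1 ha) ((mem_member hZ).1 hc)
    apply Subtype.ext
    show a.1 * c.1 = c.1 * a.1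
    rw [← hX, ← hZ, ← map_mul, ← map_mul, h1]
  conj := by
    rintro _ ⟨A, hA, hAH, rfl⟩ g
    obtain ⟨G, hG⟩ := exists_lift g
    refine ⟨G * A * G⁻¹, nc_conj hA G, ?_, cj_member hG⟩
    rw [map_mul, map_mul, map_inv, hG]
    exact H.mul_mem (H.mul_mem g.2 hAH) (H.inv_mem g.2)
  cover := by
    intro x hx
    obtain ⟨X, hX⟩ := exists_lift x
    have hH : mkP X ∈ H := by rw [hX]; exact x.2
    exact ⟨_, ⟨X, nc_of_lift hX hx, hH, rfl⟩, (mem_member hX).2 rfl⟩
  disj := by
    rintro _ ⟨A, hA, hAH, rfl⟩ _ ⟨A', hA', hAH', rfl⟩ x hx h1 h2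
    obtain ⟨X, hX⟩ := exists_lift x
    have hXNC := nc_of_lift hX hx
    rw [member_eq_of_commute hA hXNC ((mem_member hX).1 h1),
      member_eq_of_commute hA' hXNC ((mem_member hX).1 h2)]
  kind := by
    rintro _ ⟨A, hA, hAH, rfl⟩
    by_cases hd : disc A = 0
    · exact Or.inl (isP_member p hA hd)
    · exact Or.inr (isS_member p hA hd hAH)
  comp := by
    rintro _ ⟨A, hA, hAH, rfl⟩ hP hne
    have hd : disc A = 0 := disc_eq_zero_of_isP p hA hAH hP
    obtain ⟨Y, hYNC, hYH, hdY, hle, hc⟩ := comp_aux p hA hd hAH hne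
    exact ⟨member H Y, ⟨Y, hYNC, hYH, rfl⟩, isS_member p hYNC hdY hYH, hle, hc⟩

end Cfsg.Agent.Lib.BrauerTuan.DpGen
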