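import Cfsg.Agent.Lib.BrauerTuan.Reduce
import Cfsg.Agent.Lib.BrauerTuan.DpGen
import Cfsg.Agent.Lib.BrauerTuan.DegBound

/-!
# The degree bound for faithful irreducible representations
-/

set_option autoImplicit false
set_option linter.unusedSectionVars false
set_option linter.style.haveILetI false

namespace Cfsg.Agent.Lib.BrauerTuan

open Module Matrix Subgroup Cfsg.Agent.Lib.DefectOne
open scoped MatrixGroups
open Cfsg.Agent.Lib.PSL2.Basic

section Main

variable {Γ : Type*} [Group Γ] [Finite Γ] {n p : ℕ} [hp : Fact p.Prime]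

/-- The map to `PSL(2, k)` for a faithful irreducible complex representation of degree at most
`(p - 1) / 2`. -/
theorem exists_psl_of_matrix (R : Γ →* Matrix (Fin n) (Fin n) ℂ) (hinj : Function.Injective R)
    (hirr : ∀ v : Fin n → ℂ, v ≠ 0 → Submodule.span ℂ (Set.range fun g => R g *ᵥ v) = ⊤)
    (hn : 0 < n) {x : Γ} (hx : orderOf x = p) (hsq : ¬ p ^ 2 ∣ Nat.card Γ)
    (hnn : ¬ (zpowers x).Normal) (hdim : 2 * n + 1 ≤ p) :
    ∃ (k : Type) (_ : Field k) (_ : CharP k p) (ψ : Γ →* PSL(2, k)),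
      ψ x ≠ 1 ∧ ∀ g, ψ g = 1 → g * x = x * g := by
  obtain ⟨O, -, hpO⟩ := exists_val p
  obtain ⟨B, A, hdet, hA, hfit⟩ := exists_fit_form O R hirr hn
  haveI hch := charP_residue O p hpO
  have hodd : p ≠ 2 := by omega
  have h2 : (2 : IsLocalRing.ResidueField O) ≠ 0 := by
    intro h
    have h3 : ((2 : ℕ) : IsLocalRing.ResidueField O) = 0 := by exact_mod_cast h
    have h4 := (CharP.cast_eq_zero_iff (IsLocalRing.ResidueField O) p 2).1 h3
    have h5 := Nat.le_of_dvd (by norm_num) h4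
    omega
  let e : Matrix (Fin n) (Fin n) (IsLocalRing.ResidueField O) ≃ₐ[IsLocalRing.ResidueField O]
      End (IsLocalRing.ResidueField O) (Fin n → IsLocalRing.ResidueField O) := Matrix.toLinAlgEquiv'
  let ρ : Γ →* End (IsLocalRing.ResidueField O) (Fin n → IsLocalRing.ResidueField O) :=
    (e : _ →* _).comp (redHom O A)
  have hρ : ∀ g, ρ g = e (redHom O A g) := fun _ => rfl
  have hρinj : Function.Injective ρ := e.injective.comp (red_injective O hpO R hinj B hdet A hA hx hsq hnn)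
  have hLoc : ∀ S : End (IsLocalRing.ResidueField O) (Fin n → IsLocalRing.ResidueField O),
      (∀ g, S * ρ g = ρ g * S) → IsNilpotent S ∨ IsUnit S := by
    intro S hS
    have h1 : ∀ g, e.symm S * redHom O A g = redHom O A g * e.symm S := by
      intro g
      apply e.injective
      rw [map_mul, map_mul, e.apply_symm_apply, ← hρ]
      exact hS g
    rcases hfit _ h1 with h3 | h3
    · left
      have := h3.map e
      rwa [e.apply_symm_apply] at this
    · right
      have := h3.map e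
      rwa [e.apply_symm_apply] at this
  have hfr : finrank (IsLocalRing.ResidueField O) (Fin n → IsLocalRing.ResidueField O) = n := by
    simp
  obtain ⟨ψ, h1, h3⟩ := quad_to_psl ρ hρinj hLoc hx hsq (by rw [hfr]; exact hdim) h2
    (residue_exists_sqrt O) hodd
  exact ⟨IsLocalRing.ResidueField O, inferInstance, hch, ψ, h1, h3⟩

/-- The numbers of the image in `PSL(2, k)`. -/
theorem psl_numbers {k : Type*} [Field k] [CharP k p] (ψ : Γ →* PSL(2, k)) {x : Γ}
    (hx : orderOf x = p) (hsq : ¬ p ^ 2 ∣ Nat.card Γ) (hψx : ψ x ≠ 1)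
    (hker : ∀ g, ψ g = 1 → g * x = x * g) (hnn : ¬ (zpowers x).Normal) (hp5 : 5 ≤ p) :
    Nat.card (Sylow p ψ.range) = p + 1 ∧ ∃ kk : ℕ, Nat.card ψ.range = p * kk * (p + 1) ∧
      (kk = p - 1 ∨ 2 * kk = p - 1) ∧ kk ≤ (expSet x p).card := by
  haveI : Finite ψ.range := Finite.of_surjective ψ.rangeRestrict ψ.rangeRestrict_surjective
  have hf : Function.Surjective ψ.rangeRestrict := ψ.rangeRestrict_surjective
  have hfx : ψ.rangeRestrict x ≠ 1 := fun h => hψx (congrArg Subtype.val h)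
  have hker' : ∀ g, ψ.rangeRestrict g = 1 → g * x = x * g := fun g h =>
    hker g (congrArg Subtype.val h)
  let D := DpGen.dp ψ.range p
  obtain ⟨h1, kk, h2, h3⟩ := gl_numbers D hf hx hsq hfx hker' hnn hp5
  exact ⟨h1, kk, h2, h3, gl_count D hf hx hsq hfx hker' h1 h2⟩

/-- The representation on the coordinate space. -/
noncomputable def toEnd {Γ : Type*} [Group Γ] {n : ℕ} (R : Γ →* Matrix (Fin n) (Fin n) ℂ) :
    Γ →* End ℂ (Fin n → ℂ) :=
  ((Matrix.toLinAlgEquiv' : Matrix (Fin n) (Fin n) ℂ ≃ₐ[ℂ] End ℂ (Fin n → ℂ)) : _ →* _).comp R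

lemma toEnd_apply {Γ : Type*} [Group Γ] {n : ℕ} (R : Γ →* Matrix (Fin n) (Fin n) ℂ) (g : Γ)
    (v : Fin n → ℂ) : toEnd R g v = R g *ᵥ v := rfl

lemma toEnd_injective {Γ : Type*} [Group Γ] {n : ℕ} {R : Γ →* Matrix (Fin n) (Fin n) ℂ}
    (hinj : Function.Injective R) : Function.Injective (toEnd R) :=
  (Matrix.toLinAlgEquiv' : Matrix (Fin n) (Fin n) ℂ ≃ₐ[ℂ] End ℂ (Fin n → ℂ)).injective.comp hinj

/-- **The degree bound.** -/
theorem core_bound (R : Γ →* Matrix (Fin n) (Fin n) ℂ) (hinj : Function.Injective R)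
    (hirr : ∀ v : Fin n → ℂ, v ≠ 0 → Submodule.span ℂ (Set.range fun g => R g *ᵥ v) = ⊤)
    (hn : 0 < n) {x : Γ} (hx : orderOf x = p) (hsq : ¬ p ^ 2 ∣ Nat.card Γ)
    (hnn : ¬ (zpowers x).Normal) (hdim : 2 * n + 1 ≤ p) (hp5 : 5 ≤ p) : p - 1 ≤ 2 * n := by
  obtain ⟨k, _, _, ψ, hψx, hker⟩ := exists_psl_of_matrix R hinj hirr hn hx hsq hnn hdim
  obtain ⟨-, kk, -, hk, hkE⟩ := psl_numbers ψ hx hsq hψx hker hnn hp5
  have hx1 : x ≠ 1 := by
    rintro rfl
    rw [orderOf_one] at hx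
    exact hp.out.one_lt.ne hx
  have hσ : toEnd R x ≠ 1 := by
    intro h
    apply hx1
    apply toEnd_injective hinj
    rw [h, map_one]
  have h1 := card_expSet_le hx (toEnd R) hσ
  rw [Module.finrank_fin_fun] at h1
  have h2 := hkE.trans h1
  omega

lemma not_normal_of_one {x : Γ} (R : Γ →* Matrix (Fin 1) (Fin 1) ℂ) (hinj : Function.Injective R)
    (hnn : ¬ (zpowers x).Normal) : False := by
  apply hnn
  have hc : ∀ a b : Γ, a * b = b * a := by
    intro a b
    apply hinj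
    rw [map_mul, map_mul]
    ext i j
    fin_cases i
    fin_cases j
    simp [Matrix.mul_apply, mul_comm]
  refine ⟨fun n hn g => ?_⟩
  rw [hc g n, mul_assoc, mul_inv_cancel, mul_one]
  exact hn

end Main

end Cfsg.Agent.Lib.BrauerTuan
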