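import Cfsg.Agent.Lib.PSL2.DClassify

/-!
# Groups mapping to a group with a Dickson partition

`f : Γ → H` is onto, `H` has a Dickson partition, `x ∈ Γ` has order `p`, `p ^ 2 ∤ |Γ|`, the kernel
of `f` centralises `x` and `⟨x⟩` is not normal. Then the numbers of `H` are those of `PSL(2, p)` or
`PGL(2, p)` and `x` is conjugate in `Γ` to many of its powers.
-/

set_option autoImplicit false
set_option linter.unusedSectionVars false
set_option linter.style.haveILetI false

namespace Cfsg.Agent.Lib.BrauerTuan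

open Subgroup Cfsg.Agent.Lib.PSL2.DPart Cfsg.Agent.Lib.PSL2.DClassify

section Exp

variable {Γ : Type*} [Group Γ]

open Classical in
/-- The residues `c < p` such that `x` is conjugate to `x ^ c`. -/
noncomputable def expSet (x : Γ) (p : ℕ) : Finset ℕ :=
  (Finset.range p).filter fun c => ∃ w : Γ, w * x * w⁻¹ = x ^ c

lemma mem_expSet {x : Γ} {p c : ℕ} : c ∈ expSet x p ↔ c < p ∧ ∃ w : Γ, w * x * w⁻¹ = x ^ c := by
  simp [expSet]

lemma normal_zpowers_of_conj {x : Γ} (h : ∀ w : Γ, w * x * w⁻¹ ∈ zpowers x) :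
    (zpowers x).Normal := by
  refine ⟨fun n hn w => ?_⟩
  obtain ⟨i, rfl⟩ := mem_zpowers_iff.1 hn
  rw [← conj_zpow]
  exact Subgroup.zpow_mem _ (h w) i

end Exp

section Main

variable {Γ H : Type*} [Group Γ] [Group H] [Finite Γ] [Finite H] {p : ℕ} [hp : Fact p.Prime]
variable {f : Γ →* H} {x : Γ}

lemma orderOf_map_eq (hx : orderOf x = p) (hfx : f x ≠ 1) : orderOf (f x) = p := by
  apply orderOf_eq_prime _ hfx
  rw [← map_pow, ← hx, pow_orderOf_eq_one, map_one]

lemma dvd_card_image (hx : orderOf x = p) (hfx : f x ≠ 1) : p ∣ Nat.card H := by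
  rw [← orderOf_map_eq hx hfx]
  exact orderOf_dvd_natCard _

lemma not_sq_dvd_image (hf : Function.Surjective f) (hsq : ¬ p ^ 2 ∣ Nat.card Γ) :
    ¬ p ^ 2 ∣ Nat.card H := fun h =>
  hsq (h.trans (Subgroup.card_dvd_of_surjective f hf))

lemma not_dvd_ker (hf : Function.Surjective f) (hx : orderOf x = p) (hsq : ¬ p ^ 2 ∣ Nat.card Γ)
    (hfx : f x ≠ 1) : ¬ p ∣ Nat.card f.ker := by
  intro h
  apply hsq
  have h1 := f.ker.card_mul_index
  rw [Subgroup.index_ker, (MonoidHom.range_eq_top.2 hf)] at h1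
  have h2 : Nat.card (⊤ : Subgroup H) = Nat.card H := Nat.card_congr Subgroup.topEquiv.toEquiv
  rw [h2] at h1
  rw [← h1, pow_two]
  exact mul_dvd_mul h (dvd_card_image hx hfx)

/-- The main computation: lifting the action on `x`. -/
lemma conj_eq_of_map (hf : Function.Surjective f) (hx : orderOf x = p)
    (hsq : ¬ p ^ 2 ∣ Nat.card Γ) (hfx : f x ≠ 1) (hker : ∀ g, f g = 1 → g * x = x * g)
    {w : Γ} {c : ℕ} (h : f (w * x * w⁻¹) = f (x ^ c)) : w * x * w⁻¹ = x ^ c := by
  set z := w * x * w⁻¹ with hz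
  set u := (x ^ c)⁻¹ * z with hu
  have hfu : f u = 1 := by
    rw [hu, map_mul, map_inv, h, inv_mul_cancel]
  have hxp : x ^ p = 1 := by rw [← hx, pow_orderOf_eq_one]
  have hcomm : Commute (x ^ c) u := by
    have h1 : Commute u x := hker u hfu
    exact (h1.pow_right c).symm
  have hzu : z = x ^ c * u := by rw [hu]; group
  have hzp : z ^ p = 1 := by
    rw [hz, conj_pow, hxp]
    group
  have hup : u ^ p = 1 := by
    rw [hzu, hcomm.mul_pow, ← pow_mul, mul_comm c p, pow_mul, hxp, one_pow, one_mul] at hzp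
    exact hzp
  by_cases hu1 : u = 1
  · rw [hzu, hu1, mul_one]
  · exfalso
    have ho : orderOf u = p := orderOf_eq_prime hup hu1
    apply not_dvd_ker hf hx hsq hfx
    have h2 : orderOf (⟨u, hfu⟩ : f.ker) = p := by
      rw [← ho]
      exact Subgroup.orderOf_mk u hfu
    rw [← h2]
    exact orderOf_dvd_natCard _

lemma mem_zpowers_pow {y z : H} (h : z ∈ zpowers y) : ∃ c : ℕ, c < orderOf y ∧ y ^ c = z := by
  have hfin : IsOfFinOrder y := isOfFinOrder_of_finite y
  obtain ⟨c, hc⟩ := (hfin.mem_powers_iff_mem_zpowers).2 h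
  refine ⟨c % orderOf y, Nat.mod_lt _ (orderOf_pos y), ?_⟩
  rw [pow_mod_orderOf]
  exact hc

lemma not_normal_image (hf : Function.Surjective f) (hx : orderOf x = p)
    (hsq : ¬ p ^ 2 ∣ Nat.card Γ) (hfx : f x ≠ 1) (hker : ∀ g, f g = 1 → g * x = x * g)
    (hnn : ¬ (zpowers x).Normal) : ¬ (zpowers (f x)).Normal := by
  intro hN
  apply hnn
  apply normal_zpowers_of_conj
  intro w
  have h1 : f w * f x * (f w)⁻¹ ∈ zpowers (f x) := hN.conj_mem _ (mem_zpowers _) _
  obtain ⟨c, -, hc⟩ := mem_zpowers_pow h1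
  have h2 : f (w * x * w⁻¹) = f (x ^ c) := by
    rw [map_mul, map_mul, map_inv, map_pow, hc]
  rw [conj_eq_of_map hf hx hsq hfx hker h2]
  exact Subgroup.pow_mem _ (mem_zpowers x) c

/-- A `p`-subgroup containing `⟨y⟩`, `y` of order `p`, when `p ^ 2 ∤ |H|`, equals it. -/
lemma eq_zpowers_of_isPGroup {y : H} (hy : orderOf y = p) (hsq : ¬ p ^ 2 ∣ Nat.card H)
    {M : Subgroup H} (hM : IsPGroup p M) (hle : zpowers y ≤ M) : zpowers y = M := by
  obtain ⟨r, hr⟩ := IsPGroup.iff_card.1 hM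
  have hr1 : r ≤ 1 := by
    by_contra h
    apply hsq
    have h1 : p ^ 2 ∣ p ^ r := pow_dvd_pow p (by omega)
    rw [← hr] at h1
    exact h1.trans (Subgroup.card_subgroup_dvd_card M)
  refine Subgroup.eq_of_le_of_card_ge hle ?_
  rw [hr, Nat.card_zpowers, hy]
  calc p ^ r ≤ p ^ 1 := Nat.pow_le_pow_right hp.out.pos hr1
    _ = p := pow_one p

lemma isP_zpowers (D : Dp H p) {y : H} (hy : orderOf y = p) (hsq : ¬ p ^ 2 ∣ Nat.card H) :
    zpowers y ∈ D.mem ∧ IsP p (zpowers y) := by
  have hy1 : y ≠ 1 := by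
    rintro rfl
    rw [orderOf_one] at hy
    exact hp.out.one_lt.ne hy
  obtain ⟨M, hM, hyM⟩ := D.cover y hy1
  have hP : IsP p M := by
    rcases D.kind M hM with h | h
    · exact h
    · exfalso
      apply h.cop
      have h2 : orderOf (⟨y, hyM⟩ : M) = p := by
        rw [← hy]
        exact Subgroup.orderOf_mk y hyM
      rw [← h2]
      exact orderOf_dvd_natCard _
  have h3 := eq_zpowers_of_isPGroup hy hsq hP.pgroup ((zpowers_le).2 hyM)
  rw [h3]
  exact ⟨hM, hP⟩

/-- The numbers of `H`. -/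
theorem gl_numbers (D : Dp H p) (hf : Function.Surjective f) (hx : orderOf x = p)
    (hsq : ¬ p ^ 2 ∣ Nat.card Γ) (hfx : f x ≠ 1) (hker : ∀ g, f g = 1 → g * x = x * g)
    (hnn : ¬ (zpowers x).Normal) (hp5 : 5 ≤ p) :
    Nat.card (Sylow p H) = p + 1 ∧
      ∃ kk : ℕ, Nat.card H = p * kk * (p + 1) ∧ (kk = p - 1 ∨ 2 * kk = p - 1) := by
  have hdvd := dvd_card_image (f := f) hx hfx
  have hsqH := not_sq_dvd_image (p := p) hf hsq
  have hy := orderOf_map_eq (f := f) hx hfx
  have hQnn := not_normal_image hf hx hsq hfx hker hnn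
  obtain ⟨hQm, hQP⟩ := isP_zpowers D hy hsqH
  have hcardM : ∀ M ∈ D.mem, IsP p M → Nat.card M = p := by
    intro M hM hP
    obtain ⟨r, hr⟩ := IsPGroup.iff_card.1 hP.pgroup
    have hr1 : r ≤ 1 := by
      by_contra h
      apply hsqH
      have h1 : p ^ 2 ∣ p ^ r := pow_dvd_pow p (by omega)
      rw [← hr] at h1
      exact h1.trans (Subgroup.card_subgroup_dvd_card M)
    have hr0 : r ≠ 0 := by
      rintro rfl
      rw [pow_zero] at hr
      exact D.ne_bot M hM (Subgroup.eq_bot_of_card_eq M hr)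
    have : r = 1 := by omega
    rw [hr, this, pow_one]
  have hle5 : ∀ n : ℕ, 0 < n → n < 5 → ¬ p ∣ n := fun n h0 h5 h => by
    have := Nat.le_of_dvd h0 h
    omega
  rcases classify D with h | h | ⟨M, hM, hS, hidx⟩ | ⟨M, hM, hP, hn⟩ | ⟨h, C, hC, hnn'⟩ |
      ⟨h, L, hL, hcore⟩ | ⟨h, L, hL, hcore⟩ | ⟨M, hM, hP, hnn', hsyl, hcard, hk⟩
  · exfalso
    rw [h] at hdvd
    exact hp.out.one_lt.ne' (Nat.dvd_one.1 hdvd)
  · exfalso
    apply hQnn
    rw [D.disj _ hQm _ h (f x) hfx (mem_zpowers _) (Subgroup.mem_top _)]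
    infer_instance
  · exfalso
    have h1 := M.card_mul_index
    rw [hidx] at h1
    rw [← h1] at hdvd
    rcases (Nat.Prime.dvd_mul hp.out).1 hdvd with h2 | h2
    · exact hS.cop h2
    · exact hle5 2 (by norm_num) (by norm_num) h2
  · exfalso
    apply hQnn
    haveI := hn
    have hsup : IsPGroup p ((zpowers (f x) ⊔ M : Subgroup H)) := by
      apply IsPGroup.to_sup_of_normal_right _ hP.pgroup
      rw [IsPGroup.iff_card]
      exact ⟨1, by rw [Nat.card_zpowers, hy, pow_one]⟩
    have h1 := eq_zpowers_of_isPGroup hy hsqH hsup le_sup_left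
    have h2 : M ≤ zpowers (f x) := by
      rw [h1]
      exact le_sup_right
    have h3 : M = zpowers (f x) := by
      refine Subgroup.eq_of_le_of_card_ge h2 ?_
      rw [hcardM M hM hP, Nat.card_zpowers, hy]
    rw [← h3]
    exact hn
  · exfalso
    rw [h, show (12 : ℕ) = 3 * 4 by norm_num] at hdvd
    rcases (Nat.Prime.dvd_mul hp.out).1 hdvd with h2 | h2
    · exact hle5 3 (by norm_num) (by norm_num) h2
    · exact hle5 4 (by norm_num) (by norm_num) h2
  · exfalso
    rw [h, show (24 : ℕ) = 2 * 3 * 4 by norm_num] at hdvd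
    rcases (Nat.Prime.dvd_mul hp.out).1 hdvd with h2 | h2
    · rcases (Nat.Prime.dvd_mul hp.out).1 h2 with h3 | h3
      · exact hle5 2 (by norm_num) (by norm_num) h3
      · exact hle5 3 (by norm_num) (by norm_num) h3
    · exact hle5 4 (by norm_num) (by norm_num) h2
  · have hp5' : p = 5 := by
      rw [h, show (60 : ℕ) = 3 * 4 * 5 by norm_num] at hdvd
      rcases (Nat.Prime.dvd_mul hp.out).1 hdvd with h2 | h2
      · rcases (Nat.Prime.dvd_mul hp.out).1 h2 with h3 | h3
        · exact absurd h3 (hle5 3 (by norm_num) (by norm_num))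
        · exact absurd h3 (hle5 4 (by norm_num) (by norm_num))
      · exact (Nat.prime_dvd_prime_iff_eq hp.out (by norm_num)).1 h2
    have hQg : IsPGroup p (zpowers (f x)) := by
      rw [IsPGroup.iff_card]
      exact ⟨1, by rw [Nat.card_zpowers, hy, pow_one]⟩
    obtain ⟨P, hQle⟩ := hQg.exists_le_sylow
    have hQP' := eq_zpowers_of_isPGroup hy hsqH P.isPGroup' hQle
    have hcP : Nat.card (P : Subgroup H) = p := by
      rw [← hQP', Nat.card_zpowers, hy]
    have hidx := (P : Subgroup H).card_mul_index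
    rw [hcP, h] at hidx
    have hkey : ∀ i : ℕ, p * i = 60 → i = 12 := fun i hi => by
      rw [hp5'] at hi
      omega
    have hidx12 : (P : Subgroup H).index = 12 := hkey _ hidx
    have hd := P.card_dvd_index
    rw [hidx12] at hd
    have hmod : Nat.card (Sylow p H) % p = 1 % p := card_sylow_modEq_one p H
    have hkey2 : ∀ n : ℕ, n % p = 1 % p → n ∣ 12 → n = 1 ∨ n = 6 := by
      intro n hm hd
      rw [hp5'] at hm
      have hnle : n ≤ 12 := Nat.le_of_dvd (by norm_num) hd
      have h11 : n ≠ 11 := by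
        rintro rfl
        norm_num at hd
      omega
    have hcases := hkey2 _ hmod hd
    generalize hn : Nat.card (Sylow p H) = n at hcases
    rcases hcases with h1 | h1
    · exfalso
      apply hQnn
      rw [h1] at hn
      haveI := (Nat.card_eq_one_iff_unique.1 hn).1
      rw [hQP']
      exact P.normal_of_subsingleton
    · refine ⟨by rw [h1, hp5'], 2, by rw [h, hp5'], Or.inr (by rw [hp5'])⟩
  · rw [hcardM M hM hP] at hsyl hcard hk
    exact ⟨hsyl, kk M, hcard, hk⟩

/-- The residues realised in `Γ`. -/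
theorem gl_count (D : Dp H p) (hf : Function.Surjective f) (hx : orderOf x = p)
    (hsq : ¬ p ^ 2 ∣ Nat.card Γ) (hfx : f x ≠ 1) (hker : ∀ g, f g = 1 → g * x = x * g)
    {kk : ℕ} (hsyl : Nat.card (Sylow p H) = p + 1) (hcard : Nat.card H = p * kk * (p + 1)) :
    kk ≤ (expSet x p).card := by
  classical
  have hsqH := not_sq_dvd_image (p := p) hf hsq
  have hy := orderOf_map_eq (f := f) hx hfx
  obtain ⟨hQm, hQP⟩ := isP_zpowers D hy hsqH
  have hQg : IsPGroup p (zpowers (f x)) := by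
    rw [IsPGroup.iff_card]
    exact ⟨1, by rw [Nat.card_zpowers, hy, pow_one]⟩
  obtain ⟨P, hQle⟩ := hQg.exists_le_sylow
  have hQP' := eq_zpowers_of_isPGroup hy hsqH P.isPGroup' hQle
  set N : Subgroup H := normalizer (zpowers (f x) : Set H) with hN
  have hidx : N.index = p + 1 := by
    rw [← hsyl, P.card_eq_index_normalizer, hN, hQP']
    rfl
  have hcN : Nat.card N = p * kk := by
    have h1 := N.card_mul_index
    rw [hidx, hcard] at h1
    exact Nat.eq_of_mul_eq_mul_right (Nat.succ_pos p) h1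
  have hex : ∀ y : N, ∃ c : ℕ, c < p ∧ f x ^ c = y.1 * f x * y.1⁻¹ := by
    intro y
    have h1 := (Subgroup.mem_normalizer_iff.1 y.2 (f x)).1 (mem_zpowers _)
    obtain ⟨c, hc, hc'⟩ := mem_zpowers_pow h1
    rw [hy] at hc
    exact ⟨c, hc, hc'⟩
  choose cf hcf hcf' using hex
  haveI : Fintype N := Fintype.ofFinite _
  have himg : ∀ y : N, cf y ∈ expSet x p := by
    intro y
    obtain ⟨w, hw⟩ := hf y.1
    rw [mem_expSet]
    refine ⟨hcf y, w, conj_eq_of_map hf hx hsq hfx hker ?_⟩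
    rw [map_mul, map_mul, map_inv, hw, map_pow, hcf']
  have hfib : ∀ a ∈ (Finset.univ : Finset N).image cf,
      ((Finset.univ : Finset N).filter fun y => cf y = a).card ≤ p := by
    intro a ha
    obtain ⟨y₀, -, rfl⟩ := Finset.mem_image.1 ha
    have hinj : ∀ y : {y : N // cf y = cf y₀}, (y₀.1⁻¹ * y.1.1) ∈ zpowers (f x) := by
      rintro ⟨y, hyy⟩
      apply hQP.ca (f x) (mem_zpowers _) (by
        intro h1
        rw [h1, orderOf_one] at hy
        exact hp.out.one_lt.ne hy)
      have h1 := hcf' y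
      rw [hyy, hcf'] at h1
      have h2 : y.1 * f x = y₀.1 * f x * y₀.1⁻¹ * y.1 := by
        rw [h1]
        group
      calc y₀.1⁻¹ * y.1 * f x = y₀.1⁻¹ * (y.1 * f x) := by group
        _ = f x * (y₀.1⁻¹ * y.1) := by
          rw [h2]
          group
    have h3 : Nat.card {y : N // cf y = cf y₀} ≤ Nat.card (zpowers (f x)) := by
      apply Nat.card_le_card_of_injective (fun y => (⟨_, hinj y⟩ : zpowers (f x)))
      rintro ⟨y, hyy⟩ ⟨y', hyy'⟩ h
      have h4 : y₀.1⁻¹ * y.1 = y₀.1⁻¹ * y'.1 := congrArg Subtype.val h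
      exact Subtype.ext (Subtype.ext (mul_left_cancel h4))
    rw [Nat.card_zpowers, hy, Nat.card_eq_fintype_card, Fintype.card_subtype] at h3
    exact h3
  have h5 := Finset.card_le_mul_card_image (Finset.univ : Finset N) p hfib
  have h6 : (Finset.univ : Finset N).image cf ⊆ expSet x p := by
    intro a ha
    obtain ⟨y, -, rfl⟩ := Finset.mem_image.1 ha
    exact himg y
  have h7 := Finset.card_le_card h6
  rw [Finset.card_univ, ← Nat.card_eq_fintype_card, hcN] at h5
  have h8 : p * kk ≤ p * (expSet x p).card := h5.trans (Nat.mul_le_mul_left p h7)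
  exact Nat.le_of_mul_le_mul_left h8 hp.out.pos

end Main

end Cfsg.Agent.Lib.BrauerTuan
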