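import Mathlib

/-!
# Lifting an idempotent modulo the ideal of maps into `range δ`
-/

set_option autoImplicit false
set_option linter.unusedSectionVars false

namespace Cfsg.Agent.Lib.BrauerTuan

open Module

variable {k : Type*} [Field k] {Y : Type*} [AddCommGroup Y] [Module k Y]

/-- The ideal of maps commuting with `δ` with image in `range δ`. -/
def InI (δ c : End k Y) : Prop := c * δ = δ * c ∧ ∀ v, c v ∈ LinearMap.range δ

namespace InI

variable {δ c c' : End k Y}

lemma add (h : InI δ c) (h' : InI δ c') : InI δ (c + c') :=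
  ⟨by rw [add_mul, mul_add, h.1, h'.1], fun v => by
    rw [LinearMap.add_apply]; exact Submodule.add_mem _ (h.2 v) (h'.2 v)⟩

lemma mul_left (h : InI δ c) (hc : c' * δ = δ * c') : InI δ (c' * c) := by
  refine ⟨by rw [mul_assoc, h.1, ← mul_assoc, hc, mul_assoc], fun v => ?_⟩
  obtain ⟨w, hw⟩ := h.2 v
  refine ⟨c' w, ?_⟩
  rw [Module.End.mul_apply, ← hw]
  have := LinearMap.congr_fun hc w
  simpa using this.symm

lemma mul_right (h : InI δ c) (hc : c' * δ = δ * c') : InI δ (c * c') := by
  refine ⟨by rw [mul_assoc, hc, ← mul_assoc, h.1, mul_assoc], fun v => ?_⟩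
  rw [Module.End.mul_apply]
  exact h.2 _

lemma neg (h : InI δ c) : InI δ (-c) :=
  ⟨by rw [neg_mul, mul_neg, h.1], fun v => by
    rw [LinearMap.neg_apply]; exact Submodule.neg_mem _ (h.2 v)⟩

lemma pow_apply_mem (h : InI δ c) (j : ℕ) (v : Y) : (c ^ j) v ∈ LinearMap.range (δ ^ j) := by
  induction j generalizing v with
  | zero => simp
  | succ j ih =>
    obtain ⟨w, hw⟩ := ih v
    obtain ⟨w', hw'⟩ := h.2 w
    refine ⟨w', ?_⟩
    have hcomm : Commute c (δ ^ j) := Commute.pow_right (show Commute c δ from h.1) j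
    have h1 := LinearMap.congr_fun hcomm.eq w
    simp only [Module.End.mul_apply] at h1
    calc (δ ^ (j + 1)) w' = (δ ^ j) (δ w') := by rw [pow_succ, Module.End.mul_apply]
      _ = (δ ^ j) (c w) := by rw [hw']
      _ = c ((δ ^ j) w) := h1.symm
      _ = c ((c ^ j) v) := by rw [hw]
      _ = (c ^ (j + 1)) v := by rw [pow_succ', Module.End.mul_apply]

lemma pow_eq_zero (h : InI δ c) {l : ℕ} (hδ : δ ^ l = 0) : c ^ l = 0 := by
  ext v
  obtain ⟨w, hw⟩ := h.pow_apply_mem l v
  rw [← hw, hδ]
  rfl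

lemma injective_one_add (h : InI δ c) {l : ℕ} (hδ : δ ^ l = 0) : Function.Injective ((1 + c : End k Y) : Y → Y) := by
  rw [injective_iff_map_eq_zero]
  intro v hv
  have h1 : c v = -v := by
    have : v + c v = 0 := hv
    exact (eq_neg_of_add_eq_zero_right this)
  have h2 : ∀ j : ℕ, (c ^ j) v = (-1 : k) ^ j • v := by
    intro j
    induction j with
    | zero => simp
    | succ j ih =>
      rw [pow_succ, Module.End.mul_apply, h1, map_neg, ih, pow_succ]
      simp
  have h3 := h2 l
  rw [h.pow_eq_zero hδ] at h3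
  have h4 : ((-1 : k) ^ l) ≠ 0 := pow_ne_zero _ (by simp)
  have h5 : (-1 : k) ^ l • v = 0 := h3.symm
  exact (smul_eq_zero.1 h5).resolve_left h4

end InI

section Main

variable {p : ℕ} [hp : Fact p.Prime] [CharP k p]

lemma sq_sub_pow (f : End k Y) : (f * f - f) ^ p = (f ^ p) * (f ^ p) - f ^ p := by
  have h : ((Polynomial.X : Polynomial k) * Polynomial.X - Polynomial.X) ^ p =
      Polynomial.X ^ p * Polynomial.X ^ p - Polynomial.X ^ p := by
    have : CharP (Polynomial k) p := Polynomial.charP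
    rw [sub_pow_char, mul_pow]
  have := congrArg (Polynomial.aeval f) h
  simpa using this

/-- The main lifting. -/
theorem lift_idem {δ π r : End k Y} {l : ℕ} (hδ : δ ^ l = 0) (hl : l ≤ p) (hπ : π * π = π)
    (hπδ : π * δ = δ * π) (hr : InI δ r) :
    let ι := (π + r) ^ p
    ι * ι = ι ∧ ι * δ = δ * ι ∧ ∃ u : End k Y, u * δ = δ * u ∧ Function.Injective u ∧ u * π = ι * u := by
  intro ι
  set f := π + r with hf
  have hfδ : f * δ = δ * f := by rw [hf, add_mul, mul_add, hπδ, hr.1]
  have hsq : InI δ (f * f - f) := by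
    have h1 : f * f - f = π * r + (r * π + (r * r + (-r))) := by
      rw [hf, add_mul, mul_add, mul_add, hπ]
      abel
    rw [h1]
    exact (hr.mul_left hπδ).add ((hr.mul_right hπδ).add ((hr.mul_left hr.1).add hr.neg))
  have hι : ι * ι = ι := by
    have h1 := sq_sub_pow (p := p) f
    have h2 : (f * f - f) ^ p = 0 := by
      have h3 := hsq.pow_eq_zero hδ
      obtain ⟨m, rfl⟩ := Nat.exists_eq_add_of_le hl
      rw [pow_add, h3, zero_mul]
    rw [h2] at h1
    exact (sub_eq_zero.1 h1.symm)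
  have hιδ : ι * δ = δ * ι := (Commute.pow_left (show Commute f δ from hfδ) p).eq
  have hdiff : ∀ j : ℕ, InI δ (f ^ (j + 1) + (-π)) := by
    intro j
    induction j with
    | zero =>
      have : f ^ (0 + 1) + (-π) = r := by
        rw [zero_add, pow_one, hf]; abel
      rw [this]; exact hr
    | succ j ih =>
      have : f ^ (j + 1 + 1) + (-π) = f * (f ^ (j + 1) + (-π)) + r * π := by
        rw [mul_add, ← pow_succ', mul_neg, hf, add_mul, hπ]
        abel
      rw [this]
      exact (ih.mul_left hfδ).add (hr.mul_right hπδ)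
  have hιπ : InI δ (ι + (-π)) := by
    obtain ⟨q, hq⟩ : ∃ q, p = q + 1 := ⟨p - 1, by have := hp.out.pos; omega⟩
    show InI δ (f ^ p + (-π))
    rw [hq]
    exact hdiff q
  refine ⟨hι, hιδ, ι * π + (1 - ι) * (1 - π), ?_, ?_, ?_⟩
  · have hc₁ : Commute ι δ := hιδ
    have hc₂ : Commute π δ := hπδ
    exact ((hc₁.mul_left hc₂).add_left (((Commute.one_left δ).sub_left hc₁).mul_left
      ((Commute.one_left δ).sub_left hc₂))).eq
  · have h1 : ι * π + (1 - ι) * (1 - π) = 1 + (ι + (-π)) * ((2 : k) • π - 1) := by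
      have h2 : (2 : k) • π = π + π := two_smul k π
      rw [h2]
      simp only [add_mul, mul_add, sub_mul, mul_sub, one_mul, mul_one, neg_mul, hπ]
      abel
    rw [h1]
    refine InI.injective_one_add (hιπ.mul_right ?_) hδ
    rw [sub_mul, mul_sub, one_mul, mul_one, smul_mul_assoc, mul_smul_comm, hπδ]
  · have h1 : (1 - π) * π = 0 := by rw [sub_mul, one_mul, hπ, sub_self]
    have h2 : ι * (1 - ι) = 0 := by rw [mul_sub, mul_one, hι, sub_self]
    rw [add_mul, mul_assoc (1 - ι), h1, mul_zero, add_zero, mul_assoc, hπ, mul_add, ← mul_assoc ι ι,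
      hι, ← mul_assoc ι (1 - ι), h2, zero_mul, add_zero]

end Main

end Cfsg.Agent.Lib.BrauerTuan
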