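import Mathlib

/-!
# The logarithm of an element of order `p` in characteristic `p`

`logPoly k p = -∑_{i<p} i⁻¹ ((1+T)^i - 1)` is the truncated logarithm; the truncated exponential of
`logPoly` evaluated at a nilpotent `t` with `t^(p-1) = 0` gives back `1 + t`.
-/

set_option autoImplicit false
set_option linter.unusedSectionVars false

namespace Cfsg.Agent.Lib.BrauerTuan

open Polynomial

variable (k : Type*) [Field k] (p : ℕ)

/-- The truncated logarithm. -/
noncomputable def logPoly : k[X] :=
  -∑ i ∈ Finset.range p, C ((i : k)⁻¹) * ((1 + X) ^ i - 1)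

/-- The truncated exponential of the truncated logarithm. -/
noncomputable def expLogPoly : k[X] :=
  ∑ i ∈ Finset.range p, C (((Nat.factorial i : ℕ) : k)⁻¹) * (logPoly k p) ^ i

variable {k p} [hp : Fact p.Prime] [CharP k p]

lemma natCast_ne_zero_of_lt {i : ℕ} (h0 : 0 < i) (hi : i < p) : (i : k) ≠ 0 := by
  intro h
  have := (CharP.cast_eq_zero_iff k p i).1 h
  exact absurd (Nat.le_of_dvd h0 this) (by omega)

lemma factorial_cast_ne_zero {i : ℕ} (hi : i < p) : ((Nat.factorial i : ℕ) : k) ≠ 0 := by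
  intro h
  have h1 := (CharP.cast_eq_zero_iff k p _).1 h
  have h2 := (hp.out.dvd_factorial).1 h1
  omega

lemma sum_geom_one_add : ∑ i ∈ Finset.range p, ((1 : k[X]) + X) ^ i = X ^ (p - 1) := by
  have h1 : (∑ i ∈ Finset.range p, ((1 : k[X]) + X) ^ i) * ((1 + X) - 1) = (1 + X) ^ p - 1 :=
    geom_sum_mul _ _
  have h2 : ((1 : k[X]) + X) ^ p = 1 + X ^ p := by
    have : CharP k[X] p := Polynomial.charP
    rw [add_pow_char, one_pow]
  have h3 : (1 : k[X]) + X - 1 = X := by ring
  rw [h3, h2] at h1
  have h4 : ((1 : k[X]) + X ^ p - 1) = X ^ (p - 1) * X := by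
    rw [← pow_succ, Nat.sub_add_cancel hp.out.one_le]; ring
  rw [h4] at h1
  exact mul_right_cancel₀ X_ne_zero h1

lemma derivative_logPoly_mul : (1 + X) * derivative (logPoly k p) = 1 - X ^ (p - 1) := by
  have h1 : ∀ i ∈ Finset.range p, (1 + X) * derivative (C ((i : k)⁻¹) * (((1 : k[X]) + X) ^ i - 1)) =
      if i = 0 then 0 else (1 + X) ^ i := by
    intro i hi
    have hi' := Finset.mem_range.1 hi
    by_cases h0 : i = 0
    · subst h0
      simp
    · rw [if_neg h0]
      obtain ⟨j, rfl⟩ : ∃ j, i = j + 1 := ⟨i - 1, by omega⟩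
      have hne : ((j + 1 : ℕ) : k) ≠ 0 := natCast_ne_zero_of_lt (p := p) (by omega) hi'
      have hd : derivative (((1 : k[X]) + X) ^ (j + 1) - 1) =
          C ((j + 1 : ℕ) : k) * ((1 + X) ^ j) := by
        simp only [derivative_sub, derivative_one, sub_zero, derivative_pow, derivative_add,
          derivative_X, zero_add, mul_one, Nat.add_sub_cancel]
      rw [derivative_C_mul, hd]
      have : C (((j + 1 : ℕ) : k)⁻¹) * (C ((j + 1 : ℕ) : k) * ((1 + X) ^ j)) = ((1 : k[X]) + X) ^ j := by
        rw [← mul_assoc, ← C_mul, inv_mul_cancel₀ hne, C_1, one_mul]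
      rw [this, pow_succ']
  unfold logPoly
  rw [derivative_neg, derivative_sum, mul_neg, Finset.mul_sum, Finset.sum_congr rfl h1]
  have h2 : ∑ i ∈ Finset.range p, (if i = 0 then (0 : k[X]) else (1 + X) ^ i) =
      ∑ i ∈ Finset.range p, ((1 : k[X]) + X) ^ i - 1 := by
    rw [← Finset.sum_erase_add (Finset.range p) _ (Finset.mem_range.2 hp.out.pos),
      ← Finset.sum_erase_add (Finset.range p) (fun i => ((1 : k[X]) + X) ^ i) (Finset.mem_range.2 hp.out.pos)]
    simp only [if_true, pow_zero, add_zero, add_sub_cancel_right]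
    refine Finset.sum_congr rfl fun i hi => ?_
    rw [if_neg (Finset.ne_of_mem_erase hi)]
  rw [h2, sum_geom_one_add]
  ring

lemma coeff_zero_logPoly : (logPoly k p).coeff 0 = 0 := by
  rw [coeff_zero_eq_eval_zero]
  unfold logPoly
  simp [eval_finsetSum]

lemma X_dvd_logPoly : (X : k[X]) ∣ logPoly k p := X_dvd_iff.2 coeff_zero_logPoly

lemma derivative_expLogPoly :
    derivative (expLogPoly k p) =
      (expLogPoly k p - C (((Nat.factorial (p - 1) : ℕ) : k)⁻¹) * (logPoly k p) ^ (p - 1)) *
        derivative (logPoly k p) := by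
  obtain ⟨q, hq⟩ : ∃ q, p = q + 1 := ⟨p - 1, by have := hp.out.pos; omega⟩
  have hlt : q < p := by omega
  unfold expLogPoly
  rw [derivative_sum, hq, Finset.sum_range_succ', Nat.add_sub_cancel, Finset.sum_range_succ]
  simp only [pow_zero, Nat.factorial_zero, Nat.cast_one, inv_one, C_1, mul_one, derivative_one,
    add_zero]
  rw [add_sub_cancel_right, Finset.sum_mul]
  refine Finset.sum_congr rfl fun i hi => ?_
  have hi' := Finset.mem_range.1 hi
  have hne : ((Nat.factorial i : ℕ) : k) ≠ 0 := factorial_cast_ne_zero (p := p) (by omega)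
  have hne1 : ((i + 1 : ℕ) : k) ≠ 0 := natCast_ne_zero_of_lt (p := p) (by omega) (by omega)
  rw [derivative_C_mul, derivative_pow, Nat.add_sub_cancel, Nat.factorial_succ]
  have hc : (((i + 1) * Nat.factorial i : ℕ) : k)⁻¹ * ((i + 1 : ℕ) : k) = ((Nat.factorial i : ℕ) : k)⁻¹ := by
    push_cast
    push_cast at hne1
    field_simp
  rw [← hc, C_mul]
  ring

lemma eval_zero_expLogPoly : (expLogPoly k p).coeff 0 = 1 := by
  rw [coeff_zero_eq_eval_zero]
  unfold expLogPoly
  rw [eval_finsetSum]
  rw [Finset.sum_eq_single 0]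
  · simp
  · intro i _ hi
    have h0 : eval 0 (logPoly k p) = 0 := by
      rw [← coeff_zero_eq_eval_zero]; exact coeff_zero_logPoly
    simp [h0, hi]
  · intro h
    exact absurd (Finset.mem_range.2 hp.out.pos) h

/-- The differential equation. -/
lemma dvd_ode : (X : k[X]) ^ (p - 1) ∣ (1 + X) * derivative (expLogPoly k p) - expLogPoly k p := by
  set G := expLogPoly k p with hG
  set L := logPoly k p with hL
  set c := C (((Nat.factorial (p - 1) : ℕ) : k)⁻¹) with hc
  have h1 : (X : k[X]) ^ (p - 1) ∣ L ^ (p - 1) := pow_dvd_pow_of_dvd X_dvd_logPoly _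
  obtain ⟨Q, hQ⟩ := h1
  have h2 : (1 + X) * derivative G - G =
      X ^ (p - 1) * (-(c * Q * (1 - X ^ (p - 1))) - G) := by
    rw [derivative_expLogPoly, ← hG, ← hL, ← hc]
    have h3 : (1 + X) * ((G - c * L ^ (p - 1)) * derivative L) =
        (G - c * L ^ (p - 1)) * ((1 + X) * derivative L) := by ring
    rw [h3, hL, derivative_logPoly_mul, ← hL, hQ]
    ring
  rw [h2]
  exact Dvd.intro _ rfl

/-- The coefficients of `expLogPoly - 1 - X` vanish up to degree `p - 1`. -/
lemma coeff_sub_eq_zero (i : ℕ) (hi : i ≤ p - 1) :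
    (expLogPoly k p - 1 - X).coeff i = 0 := by
  set P : k[X] := expLogPoly k p - 1 - X with hP
  have hode : (X : k[X]) ^ (p - 1) ∣ (1 + X) * derivative P - P := by
    have h1 : (1 + X) * derivative P - P = (1 + X) * derivative (expLogPoly k p) - expLogPoly k p := by
      rw [hP]
      simp only [derivative_sub, derivative_one, derivative_X, sub_zero]
      ring
    rw [h1]
    exact dvd_ode
  have hc : ∀ j, j < p - 1 → ((1 + X) * derivative P - P).coeff j = 0 := by
    intro j hj
    exact (X_pow_dvd_iff.1 hode) j hj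
  induction i with
  | zero =>
    simp [hP, eval_zero_expLogPoly]
  | succ j ih =>
    have hj : j < p - 1 := by omega
    have h1 := hc j hj
    have h2 := ih (by omega)
    have h3 : ((1 + X) * derivative P - P).coeff j = P.coeff (j + 1) * ((j : k) + 1) +
        (X * derivative P).coeff j - P.coeff j := by
      rw [coeff_sub, add_mul, one_mul, coeff_add, coeff_derivative]
    have h4 : (X * derivative P).coeff j = 0 := by
      cases j with
      | zero => simp
      | succ m =>
        rw [coeff_X_mul, coeff_derivative, h2, zero_mul]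
    rw [h3, h4, h2] at h1
    have hne : ((j : k) + 1) ≠ 0 := by
      have := natCast_ne_zero_of_lt (k := k) (p := p) (i := j + 1) (by omega) (by have := hp.out.pos; omega)
      simpa using this
    simpa [hne] using h1

/-- `X^(p-1)` divides `expLogPoly - 1 - X`. -/
lemma dvd_sub : (X : k[X]) ^ (p - 1) ∣ expLogPoly k p - 1 - X :=
  X_pow_dvd_iff.2 fun i hi => coeff_sub_eq_zero i (by omega)

section Ring

variable {A : Type*} [Ring A] [Algebra k A]

variable (k p) in
/-- The logarithm of `1 + t`. -/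
noncomputable def logOf (t : A) : A := aeval t (logPoly k p)

lemma logOf_eq (t : A) : logOf k p t = -∑ i ∈ Finset.range p, ((i : k)⁻¹) • ((1 + t) ^ i - 1) := by
  unfold logOf logPoly
  simp [map_sum, Algebra.smul_def]

/-- **Exponential of the logarithm.** -/
theorem exp_logOf {t : A} (ht : t ^ (p - 1) = 0) :
    ∑ i ∈ Finset.range p, (((Nat.factorial i : ℕ) : k)⁻¹) • (logOf k p t) ^ i = 1 + t := by
  obtain ⟨Q, hQ⟩ := (dvd_sub : (X : k[X]) ^ (p - 1) ∣ expLogPoly k p - 1 - X)
  have h1 : expLogPoly k p = 1 + X + X ^ (p - 1) * Q := by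
    rw [← hQ]; ring
  have h2 := congrArg (aeval t) h1
  simp only [map_add, map_one, aeval_X, map_mul, map_pow, ht, zero_mul, add_zero] at h2
  rw [← h2]
  unfold expLogPoly logOf
  simp [map_sum, Algebra.smul_def]

/-- `logOf t = t * h`, where `h` is a polynomial in `t`. -/
theorem exists_logOf_eq_mul (t : A) : ∃ h : k[X], logOf k p t = t * aeval t h := by
  obtain ⟨h, hh⟩ := (X_dvd_logPoly : (X : k[X]) ∣ logPoly k p)
  refine ⟨h, ?_⟩
  unfold logOf
  rw [hh, map_mul, aeval_X]

end Ring

end Cfsg.Agent.Lib.BrauerTuan
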