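import Cfsg.Agent.Lib.PSL2.Basic

/-!
# The orthogonal group of a three dimensional quadratic space maps to `PSL(2, k)`

`k` is algebraically closed (only square roots are used) of characteristic different from `2`.
The isotropic vectors of a three dimensional nondegenerate quadratic space form a conic,
parametrised by `(a, b) ↦ a² e + a b h + b² f`, and an isometry acts on the parameters
through an element of `SL(2, k)`, up to a sign.
-/

set_option autoImplicit false

namespace Cfsg.Agent.Lib.BrauerTuan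

open Module Matrix
open scoped MatrixGroups
open Cfsg.Agent.Lib.PSL2.Basic

section Frame

variable {k W : Type*} [Field k] [AddCommGroup W] [Module k W]

/-- A hyperbolic frame of a three dimensional quadratic space. -/
structure Frame3 (B : LinearMap.BilinForm k W) (e h f : W) : Prop where
  symm : ∀ u v, B u v = B v u
  nondeg : ∀ u, (∀ v, B u v = 0) → u = 0
  ee : B e e = 0
  ef : B e f = 1
  eh : B e h = 0
  ff : B f f = 0
  fh : B f h = 0
  hh : B h h = -2
  span : ∀ v, ∃ a b c : k, v = a • e + b • h + c • f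

variable {B : LinearMap.BilinForm k W} {e h f : W}

/-- The conic of isotropic vectors. -/
def qv (e h f : W) (a b : k) : W := (a ^ 2) • e + (a * b) • h + (b ^ 2) • f

lemma qv_one_zero : qv e h f (1 : k) 0 = e := by simp [qv]

lemma qv_zero_one : qv e h f (0 : k) 1 = f := by simp [qv]

lemma qv_one_one : qv e h f (1 : k) 1 = e + h + f := by simp [qv]

lemma qv_neg (a b : k) : qv e h f (-a) (-b) = qv e h f a b := by simp [qv]

lemma qv_i {i : k} (hi : i * i = -1) (x y : k) : qv e h f (i * x) (i * y) = - qv e h f x y := by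
  simp only [qv]
  rw [show (i * x) ^ 2 = - x ^ 2 by linear_combination x ^ 2 * hi,
    show (i * x) * (i * y) = - (x * y) by linear_combination (x * y) * hi,
    show (i * y) ^ 2 = - y ^ 2 by linear_combination y ^ 2 * hi]
  module

lemma Frame3.B_coord (F : Frame3 B e h f) (a b c a' b' c' : k) :
    B (a • e + b • h + c • f) (a' • e + b' • h + c' • f) = a * c' + c * a' - 2 * b * b' := by
  have h1 := F.symm f e
  have h2 := F.symm h e
  have h3 := F.symm h f
  simp only [map_add, map_smul, LinearMap.add_apply, LinearMap.smul_apply, smul_eq_mul,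
    F.ee, F.ef, F.eh, F.ff, F.fh, F.hh, h1, h2, h3]
  ring

lemma Frame3.B_qv (F : Frame3 B e h f) (a b c d : k) :
    B (qv e h f a b) (qv e h f c d) = (a * d - b * c) ^ 2 := by
  simp only [qv]
  rw [F.B_coord]
  ring

lemma Frame3.B_qv_f (F : Frame3 B e h f) (a b : k) : B (qv e h f a b) f = a ^ 2 := by
  have := F.B_qv a b 0 1
  rw [qv_zero_one] at this
  rw [this]; ring

lemma Frame3.B_qv_e (F : Frame3 B e h f) (a b : k) : B (qv e h f a b) e = b ^ 2 := by
  have := F.B_qv a b 1 0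
  rw [qv_one_zero] at this
  rw [this]; ring

lemma Frame3.B_qv_h (F : Frame3 B e h f) (a b : k) : B (qv e h f a b) h = -2 * (a * b) := by
  have h1 := F.symm h f
  have h2 := F.symm h e
  simp only [qv, map_add, LinearMap.add_apply, map_smul, LinearMap.smul_apply, smul_eq_mul,
    F.eh, F.hh, h1, h2, F.fh]
  ring

lemma Frame3.exists_qv (F : Frame3 B e h f) (hs : ∀ a : k, ∃ b, b * b = a) (h2 : (2 : k) ≠ 0)
    {v : W} (hv : B v v = 0) : ∃ a b : k, v = qv e h f a b := by
  obtain ⟨α, β, γ, rfl⟩ := F.span v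
  rw [F.B_coord] at hv
  have hβ : β * β = α * γ := by
    have : 2 * (β * β - α * γ) = 0 := by linear_combination -hv
    have := (mul_eq_zero.1 this).resolve_left h2
    linear_combination this
  obtain ⟨a, ha⟩ := hs α
  by_cases ha0 : a = 0
  · have hα : α = 0 := by rw [← ha, ha0, mul_zero]
    have hβ0 : β = 0 := by
      have : β * β = 0 := by rw [hβ, hα, zero_mul]
      exact mul_self_eq_zero.1 this
    obtain ⟨b, hb⟩ := hs γ
    refine ⟨0, b, ?_⟩
    simp only [qv, hα, hβ0]
    rw [← hb]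
    simp [pow_two]
  · refine ⟨a, β / a, ?_⟩
    simp only [qv]
    have h3 : a ^ 2 = α := by rw [pow_two, ha]
    have h4 : a * (β / a) = β := by field_simp
    have h5 : (β / a) ^ 2 = γ := by
      have hα0 : α ≠ 0 := by
        rw [← ha]
        exact mul_ne_zero ha0 ha0
      rw [div_pow, h3, pow_two, hβ]
      field_simp
    rw [h3, h4, h5]

/-- An element of `SL(2, k)` represents `g` up to the sign `τ`. -/
def Rep3 (e h f : W) (g : W →ₗ[k] W) (τ : k) (m : SL(2, k)) : Prop :=
  ∀ a b : k, g (qv e h f a b) = τ • qv e h f (m.1 0 0 * a + m.1 0 1 * b) (m.1 1 0 * a + m.1 1 1 * b)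

lemma Rep3.mul {g g' : W →ₗ[k] W} {τ τ' : k} {m m' : SL(2, k)} (h1 : Rep3 e h f g τ m)
    (h2 : Rep3 e h f g' τ' m') : Rep3 e h f (g * g') (τ * τ') (m * m') := by
  intro a b
  rw [Module.End.mul_apply, h2 a b, map_smul, h1, smul_smul, mul_comm τ' τ]
  congr 2
  · simp only [mul_00, mul_01]; ring
  · simp only [mul_10, mul_11]; ring

lemma Frame3.rep_uniq (F : Frame3 B e h f) (h2 : (2 : k) ≠ 0) {g : W →ₗ[k] W} {τ τ' : k}
    {m m' : SL(2, k)} (h1 : Rep3 e h f g τ m) (h1' : Rep3 e h f g τ' m') (hτ : τ ≠ 0) :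
    τ = τ' ∧ (m' = m ∨ m' = -m) := by
  set n : SL(2, k) := m * m'⁻¹ with hn
  have hdm := det_entries m'
  have H : ∀ s t : k, τ • qv e h f (n.1 0 0 * s + n.1 0 1 * t) (n.1 1 0 * s + n.1 1 1 * t) =
      τ' • qv e h f s t := by
    intro s t
    have h3 := (h1 (m'.1 1 1 * s - m'.1 0 1 * t) (m'.1 0 0 * t - m'.1 1 0 * s)).symm.trans
      (h1' (m'.1 1 1 * s - m'.1 0 1 * t) (m'.1 0 0 * t - m'.1 1 0 * s))
    have e1 : n.1 0 0 * s + n.1 0 1 * t =
        m.1 0 0 * (m'.1 1 1 * s - m'.1 0 1 * t) + m.1 0 1 * (m'.1 0 0 * t - m'.1 1 0 * s) := by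
      simp only [hn, mul_00, mul_01, inv_00, inv_01, inv_10, inv_11]; ring
    have e2 : n.1 1 0 * s + n.1 1 1 * t =
        m.1 1 0 * (m'.1 1 1 * s - m'.1 0 1 * t) + m.1 1 1 * (m'.1 0 0 * t - m'.1 1 0 * s) := by
      simp only [hn, mul_10, mul_11, inv_00, inv_01, inv_10, inv_11]; ring
    have e3 : m'.1 0 0 * (m'.1 1 1 * s - m'.1 0 1 * t) + m'.1 0 1 * (m'.1 0 0 * t - m'.1 1 0 * s) = s := by
      linear_combination s * hdm
    have e4 : m'.1 1 0 * (m'.1 1 1 * s - m'.1 0 1 * t) + m'.1 1 1 * (m'.1 0 0 * t - m'.1 1 0 * s) = t := by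
      linear_combination t * hdm
    rw [e3, e4] at h3
    rw [e1, e2]
    exact h3
  have H10 := H 1 0
  have H01 := H 0 1
  have H11 := H 1 1
  rw [qv_one_zero] at H10
  rw [qv_zero_one] at H01
  rw [qv_one_one] at H11
  simp only [mul_one, mul_zero, add_zero, zero_add] at H10 H01 H11
  have a1 := congrArg (fun v => B v e) H10
  have a2 := congrArg (fun v => B v f) H10
  have a3 := congrArg (fun v => B v f) H01
  have a4 := congrArg (fun v => B v h) H11
  simp only [map_smul, LinearMap.smul_apply, smul_eq_mul, F.B_qv_e, F.B_qv_f, F.B_qv_h, map_add,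
    LinearMap.add_apply, F.ee, F.ef, F.eh, F.hh, F.fh, F.ff, F.symm h f, F.symm h e, F.symm f e] at a1 a2 a3 a4
  have n10 : n.1 1 0 = 0 := by
    have h3 : τ * n.1 1 0 ^ 2 = 0 := by rw [a1]; simp
    exact pow_eq_zero_iff two_ne_zero |>.1 ((mul_eq_zero.1 h3).resolve_left hτ)
  have n01 : n.1 0 1 = 0 := by
    have h3 : τ * n.1 0 1 ^ 2 = 0 := by rw [a3]; simp
    exact pow_eq_zero_iff two_ne_zero |>.1 ((mul_eq_zero.1 h3).resolve_left hτ)
  have hdn := det_entries n
  rw [n10, n01] at hdn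
  have hdn' : n.1 0 0 * n.1 1 1 = 1 := by linear_combination hdn
  have hττ' : τ = τ' := by
    rw [n10, n01] at a4
    have a5 : τ * (-2 * (n.1 0 0 * n.1 1 1)) = τ' * (0 + -2 + 0) := by
      simpa using a4
    rw [hdn'] at a5
    have : 2 * (τ - τ') = 0 := by linear_combination -a5
    have := (mul_eq_zero.1 this).resolve_left h2
    linear_combination this
  refine ⟨hττ', ?_⟩
  have a6 : n.1 0 0 ^ 2 = 1 := by
    rw [← hττ', mul_one] at a2
    have : τ * (n.1 0 0 ^ 2 - 1) = 0 := by linear_combination a2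
    have := (mul_eq_zero.1 this).resolve_left hτ
    linear_combination this
  have a7 : (n.1 0 0 - 1) * (n.1 0 0 + 1) = 0 := by linear_combination a6
  rcases mul_eq_zero.1 a7 with a8 | a8
  · left
    have a9 : n.1 0 0 = 1 := by linear_combination a8
    have a10 : n.1 1 1 = 1 := by rw [a9, one_mul] at hdn'; exact hdn'
    have hn1 : n = 1 := ext2 (by rw [a9]; simp) (by rw [n01]; simp) (by rw [n10]; simp) (by rw [a10]; simp)
    exact (mul_inv_eq_one.1 hn1).symm
  · right
    have a9 : n.1 0 0 = -1 := by linear_combination a8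
    have a10 : n.1 1 1 = -1 := by
      rw [a9] at hdn'
      linear_combination -hdn'
    have hn1 : n = -1 := ext2 (by rw [a9]; simp) (by rw [n01]; simp) (by rw [n10]; simp) (by rw [a10]; simp)
    have h5 : m = n * m' := by rw [hn]; group
    rw [h5, hn1]
    apply ext2 <;> simp

/-- Every isometry is represented. -/
theorem Frame3.exists_rep (F : Frame3 B e h f) (h2 : (2 : k) ≠ 0) (hs : ∀ a : k, ∃ b, b * b = a)
    (g : W →ₗ[k] W) (hg : ∀ u v, B (g u) (g v) = B u v) :
    ∃ (τ : k) (m : SL(2, k)), (τ = 1 ∨ τ = -1) ∧ Rep3 e h f g τ m := by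
  obtain ⟨α, γ, hα⟩ := F.exists_qv hs h2 (v := g e) (by rw [hg, F.ee])
  obtain ⟨β₀, δ₀, hβ₀⟩ := F.exists_qv hs h2 (v := g f) (by rw [hg, F.ff])
  have hd₀ : (α * δ₀ - β₀ * γ) ^ 2 = 1 := by
    have := F.B_qv α γ β₀ δ₀
    rw [← hα, ← hβ₀, hg, F.ef] at this
    linear_combination -this
  obtain ⟨β, δ, hβ, hdet⟩ : ∃ β δ, g f = qv e h f β δ ∧ α * δ - β * γ = 1 := by
    have h3 : (α * δ₀ - β₀ * γ - 1) * (α * δ₀ - β₀ * γ + 1) = 0 := by linear_combination hd₀
    rcases mul_eq_zero.1 h3 with h4 | h4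
    · exact ⟨β₀, δ₀, hβ₀, by linear_combination h4⟩
    · exact ⟨-β₀, -δ₀, by rw [qv_neg]; exact hβ₀, by linear_combination -h4⟩
  set u := g h with hu
  have hue : B u (qv e h f α γ) = 0 := by rw [← hα, hu, hg, F.symm, F.eh]
  have huf : B u (qv e h f β δ) = 0 := by rw [← hβ, hu, hg, F.symm, F.fh]
  have huu : B u u = -2 := by rw [hu, hg, F.hh]
  set w₀ : W := (2 * α * β) • e + (α * δ + β * γ) • h + (2 * γ * δ) • f with hw₀
  have hpol : ∀ a b : k, qv e h f (α * a + β * b) (γ * a + δ * b) =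
      a ^ 2 • qv e h f α γ + (a * b) • w₀ + b ^ 2 • qv e h f β δ := by
    intro a b
    simp only [qv, hw₀]
    module
  have hw1 : B w₀ (qv e h f α γ) = 0 := by
    simp only [qv, hw₀]
    rw [F.B_coord]
    ring
  have hw2 : B w₀ (qv e h f β δ) = 0 := by
    simp only [qv, hw₀]
    rw [F.B_coord]
    ring
  have hww : B w₀ w₀ = -2 := by
    simp only [hw₀]
    rw [F.B_coord]
    linear_combination (-2 * (α * δ - β * γ + 1)) * hdet
  obtain ⟨ε, hε2⟩ : ∃ ε : k, 2 * ε = - B u w₀ := ⟨- (B u w₀) / 2, by field_simp⟩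
  obtain ⟨u', hu'⟩ : ∃ u' : W, u' = u - ε • w₀ := ⟨_, rfl⟩
  have hBu' : ∀ v, B u' v = B u v - ε * B w₀ v := by
    intro v
    simp [hu']
  have hq : ∀ s t : k, B u' (qv e h f s t) = 0 := by
    intro s t
    have e1 : s = α * (δ * s - β * t) + β * (α * t - γ * s) := by linear_combination (-s) * hdet
    have e2 : t = γ * (δ * s - β * t) + δ * (α * t - γ * s) := by linear_combination (-t) * hdet
    have e3 : qv e h f s t = (δ * s - β * t) ^ 2 • qv e h f α γ + ((δ * s - β * t) * (α * t - γ * s)) • w₀ +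
        (α * t - γ * s) ^ 2 • qv e h f β δ := by
      rw [← hpol, ← e1, ← e2]
    rw [e3, map_add, map_add, map_smul, map_smul, map_smul, hBu', hBu', hBu', hue, huf, hw1, hw2, hww]
    simp only [smul_eq_mul]
    linear_combination ((δ * s - β * t) * (α * t - γ * s)) * hε2
  have hu0 : u' = 0 := by
    apply F.nondeg
    intro v
    obtain ⟨a, b, c, rfl⟩ := F.span v
    have h4 := hq 1 0
    have h5 := hq 0 1
    have h6 := hq 1 1
    rw [qv_one_zero] at h4
    rw [qv_zero_one] at h5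
    rw [qv_one_one, map_add, map_add, h4, h5, zero_add, add_zero] at h6
    rw [map_add, map_add, map_smul, map_smul, map_smul, h4, h5, h6]
    simp
  have huε : u = ε • w₀ := by
    rw [hu'] at hu0
    exact sub_eq_zero.1 hu0
  have hε3 : ε ^ 2 = 1 := by
    have h3 := huu
    rw [huε] at h3
    simp only [map_smul, LinearMap.smul_apply, smul_eq_mul, hww] at h3
    have : 2 * (ε ^ 2 - 1) = 0 := by linear_combination -h3
    have := (mul_eq_zero.1 this).resolve_left h2
    linear_combination this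
  have hgq : ∀ a b : k, g (qv e h f a b) = a ^ 2 • qv e h f α γ + (a * b) • (ε • w₀) +
      b ^ 2 • qv e h f β δ := by
    intro a b
    simp only [qv]
    rw [map_add, map_add, map_smul, map_smul, map_smul, ← hu, huε, hα, hβ]
    simp only [qv]
  have h3 : (ε - 1) * (ε + 1) = 0 := by linear_combination hε3
  rcases mul_eq_zero.1 h3 with h4 | h4
  · have hε1 : ε = 1 := by linear_combination h4
    refine ⟨1, sl2 α β γ δ hdet, Or.inl rfl, fun a b => ?_⟩
    rw [hgq, hε1, one_smul, one_smul]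
    simp only [sl2_00, sl2_01, sl2_10, sl2_11]
    rw [hpol]
  · have hε1 : ε = -1 := by linear_combination h4
    obtain ⟨i, hi⟩ := hs (-1)
    have hdet' : (i * α) * (-i * δ) - (-i * β) * (i * γ) = 1 := by
      linear_combination hdet - (α * δ - β * γ) * hi
    refine ⟨-1, sl2 (i * α) (-i * β) (i * γ) (-i * δ) hdet', Or.inr rfl, fun a b => ?_⟩
    rw [hgq, hε1]
    simp only [sl2_00, sl2_01, sl2_10, sl2_11]
    rw [show i * α * a + -i * β * b = i * (α * a + β * (-b)) by ring,
      show i * γ * a + -i * δ * b = i * (γ * a + δ * (-b)) by ring, qv_i hi, hpol]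
    module

end Frame

section Exists

variable {k W : Type*} [Field k] [AddCommGroup W] [Module k W]

/-- A hyperbolic frame exists. -/
theorem exists_frame3 [FiniteDimensional k W] (h2 : (2 : k) ≠ 0) (hs : ∀ a : k, ∃ b, b * b = a) (hdim : finrank k W = 3)
    (B : LinearMap.BilinForm k W) (hsymm : ∀ u v, B u v = B v u)
    (hnd : ∀ u, (∀ v, B u v = 0) → u = 0) : ∃ e h f : W, Frame3 B e h f := by
  classical
  letI : Invertible (2 : k) := invertibleOfNonzero h2
  obtain ⟨v₀, hv₀⟩ := LinearMap.BilinForm.exists_orthogonal_basis (B := B) ⟨hsymm⟩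
  let v : Basis (Fin 3) k W := v₀.reindex (finCongr hdim)
  have hv : ∀ i j, i ≠ j → B (v i) (v j) = 0 := by
    intro i j hij
    have := hv₀ (i := (finCongr hdim).symm i) (j := (finCongr hdim).symm j)
      (by simpa using hij)
    simpa [v, Basis.reindex_apply] using this
  have hvv : ∀ i, B (v i) (v i) ≠ 0 := by
    intro i h0
    apply v.ne_zero i
    apply hnd
    intro x
    rw [← v.sum_repr x, map_sum]
    refine Finset.sum_eq_zero fun j _ => ?_
    rw [map_smul, smul_eq_mul]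
    by_cases hij : i = j
    · subst hij
      rw [h0, mul_zero]
    · rw [hv i j hij, mul_zero]
  obtain ⟨s₀, hs₀⟩ := hs (B (v 0) (v 0))
  obtain ⟨s₁, hs₁⟩ := hs (B (v 1) (v 1))
  obtain ⟨s₂, hs₂⟩ := hs (B (v 2) (v 2))
  have hs₀0 : s₀ ≠ 0 := fun h => hvv 0 (by rw [← hs₀, h, mul_zero])
  have hs₁0 : s₁ ≠ 0 := fun h => hvv 1 (by rw [← hs₁, h, mul_zero])
  have hs₂0 : s₂ ≠ 0 := fun h => hvv 2 (by rw [← hs₂, h, mul_zero])
  obtain ⟨r, hr⟩ := hs 2
  obtain ⟨i, hi⟩ := hs (-1)
  have hr0 : r ≠ 0 := fun h => h2 (by rw [← hr, h, mul_zero])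
  have hi0 : i ≠ 0 := by
    intro h
    rw [h, mul_zero] at hi
    have : (1 : k) = 0 := by linear_combination hi
    exact one_ne_zero this
  set u₀ := s₀⁻¹ • v 0 with hu₀
  set u₁ := s₁⁻¹ • v 1 with hu₁
  set u₂ := s₂⁻¹ • v 2 with hu₂
  have h00 : B u₀ u₀ = 1 := by
    simp only [hu₀, map_smul, LinearMap.smul_apply, smul_eq_mul]
    rw [← hs₀]
    field_simp
  have h11 : B u₁ u₁ = 1 := by
    simp only [hu₁, map_smul, LinearMap.smul_apply, smul_eq_mul]
    rw [← hs₁]
    field_simp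
  have h22 : B u₂ u₂ = 1 := by
    simp only [hu₂, map_smul, LinearMap.smul_apply, smul_eq_mul]
    rw [← hs₂]
    field_simp
  have h01 : B u₀ u₁ = 0 := by
    simp [hu₀, hu₁, hv 0 1 (by decide)]
  have h02 : B u₀ u₂ = 0 := by
    simp [hu₀, hu₂, hv 0 2 (by decide)]
  have h12 : B u₁ u₂ = 0 := by
    simp [hu₁, hu₂, hv 1 2 (by decide)]
  have h10 : B u₁ u₀ = 0 := by rw [hsymm, h01]
  have h20 : B u₂ u₀ = 0 := by rw [hsymm, h02]
  have h21 : B u₂ u₁ = 0 := by rw [hsymm, h12]
  have hri : r⁻¹ * r⁻¹ * 2 = 1 := by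
    rw [← hr]
    field_simp
  refine ⟨r⁻¹ • (u₀ + i • u₁), (i * r) • u₂, r⁻¹ • (u₀ - i • u₁), ⟨hsymm, hnd, ?_, ?_, ?_, ?_, ?_, ?_, ?_⟩⟩
  · simp only [map_smul, map_add, LinearMap.smul_apply, LinearMap.add_apply, smul_eq_mul, h00, h01,
      h10, h11]
    linear_combination (r⁻¹ * r⁻¹) * hi
  · simp only [map_smul, map_add, map_sub, LinearMap.smul_apply, LinearMap.add_apply, LinearMap.sub_apply,
      smul_eq_mul, h00, h01, h10, h11]
    linear_combination hri - (r⁻¹ * r⁻¹) * hi
  · simp only [map_smul, map_add, LinearMap.smul_apply, LinearMap.add_apply, smul_eq_mul, h02, h12]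
    ring
  · simp only [map_smul, map_sub, LinearMap.smul_apply, LinearMap.sub_apply, smul_eq_mul, h00, h01,
      h10, h11]
    linear_combination (r⁻¹ * r⁻¹) * hi
  · simp only [map_smul, map_sub, LinearMap.smul_apply, LinearMap.sub_apply, smul_eq_mul, h02, h12]
    ring
  · simp only [map_smul, LinearMap.smul_apply, smul_eq_mul, h22]
    linear_combination r * r * hi + (-1 : k) * hr
  · intro x
    have hx : x = v.repr x 0 • v 0 + v.repr x 1 • v 1 + v.repr x 2 • v 2 := by
      conv_lhs => rw [← v.sum_repr x]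
      rw [Fin.sum_univ_three]
    have h3 : v 0 = s₀ • u₀ := by
      rw [hu₀, smul_smul, mul_inv_cancel₀ hs₀0, one_smul]
    have h4 : v 1 = s₁ • u₁ := by
      rw [hu₁, smul_smul, mul_inv_cancel₀ hs₁0, one_smul]
    have h5 : v 2 = s₂ • u₂ := by
      rw [hu₂, smul_smul, mul_inv_cancel₀ hs₂0, one_smul]
    set a₀ := v.repr x 0
    set a₁ := v.repr x 1
    set a₂ := v.repr x 2
    obtain ⟨A, hA⟩ : ∃ A, A = a₀ * s₀ := ⟨_, rfl⟩
    obtain ⟨C, hC⟩ : ∃ C, C = a₁ * s₁ := ⟨_, rfl⟩
    obtain ⟨D, hD⟩ : ∃ D, D = a₂ * s₂ := ⟨_, rfl⟩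
    refine ⟨A * r * 2⁻¹ + C * r * 2⁻¹ * i⁻¹, D * r⁻¹ * i⁻¹, A * r * 2⁻¹ - C * r * 2⁻¹ * i⁻¹, ?_⟩
    have c0 : (A * r * 2⁻¹ + C * r * 2⁻¹ * i⁻¹) * r⁻¹ + (A * r * 2⁻¹ - C * r * 2⁻¹ * i⁻¹) * r⁻¹ = A := by
      field_simp
      ring
    have c1 : (A * r * 2⁻¹ + C * r * 2⁻¹ * i⁻¹) * (r⁻¹ * i) - (A * r * 2⁻¹ - C * r * 2⁻¹ * i⁻¹) * (r⁻¹ * i) = C := by
      field_simp
      ring
    have c2 : (D * r⁻¹ * i⁻¹) * (i * r) = D := by
      field_simp
    have p0 : a₀ • v 0 = A • u₀ := by rw [h3, smul_smul, hA]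
    have p1 : a₁ • v 1 = C • u₁ := by rw [h4, smul_smul, hC]
    have p2 : a₂ • v 2 = D • u₂ := by rw [h5, smul_smul, hD]
    have hx' : x = A • u₀ + C • u₁ + D • u₂ := by
      rw [← p0, ← p1, ← p2]
      exact hx
    rw [hx']
    conv_lhs => rw [← c0, ← c1, ← c2]
    module

end Exists

section Hom

variable {G k W : Type*} [Group G] [Field k] [AddCommGroup W] [Module k W]
variable {B : LinearMap.BilinForm k W} {e h f : W}

/-- A group of isometries of the quadratic space maps to `PSL(2, k)`, the kernel being the elements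
acting as `±1`. -/
theorem Frame3.exists_psl_hom (F : Frame3 B e h f) (h2 : (2 : k) ≠ 0) (hs : ∀ a : k, ∃ b, b * b = a)
    (σ : G →* Module.End k W) (hσ : ∀ g u v, B (σ g u) (σ g v) = B u v) :
    ∃ ψ : G →* PSL(2, k), ∀ g, ψ g = 1 ↔ (σ g = 1 ∨ σ g = -1) := by
  choose τ m hτ hrep using fun g => F.exists_rep h2 hs (σ g) (hσ g)
  have hτ0 : ∀ g, τ g ≠ 0 := by
    intro g
    rcases hτ g with h | h <;> rw [h]
    · exact one_ne_zero
    · exact neg_ne_zero.2 one_ne_zero
  let ψ : G →* PSL(2, k) := MonoidHom.mk' (fun g => mkP (m g)) (by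
    intro g g'
    have h3 : Rep3 e h f (σ (g * g')) (τ g * τ g') (m g * m g') := by
      rw [map_mul]
      exact (hrep g).mul (hrep g')
    obtain ⟨-, h4⟩ := F.rep_uniq h2 (hrep (g * g')) h3 (hτ0 _)
    show mkP (m (g * g')) = mkP (m g) * mkP (m g')
    rw [← map_mul]
    exact mkP_eq_iff.2 h4)
  refine ⟨ψ, fun g => ?_⟩
  have hrep1 : Rep3 e h f (1 : Module.End k W) (1 : k) (1 : SL(2, k)) := by
    intro a b
    simp
  have hrepm1 : Rep3 e h f (-1 : Module.End k W) (-1 : k) (1 : SL(2, k)) := by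
    intro a b
    simp
  show mkP (m g) = 1 ↔ _
  rw [mkP_eq_one_iff]
  constructor
  · intro hm
    have hq : ∀ a b : k, σ g (qv e h f a b) = τ g • qv e h f a b := by
      intro a b
      have := hrep g a b
      rcases hm with h3 | h3
      · rw [h3] at this
        simpa using this
      · rw [h3] at this
        have h4 := qv_neg (e := e) (h := h) (f := f) a b
        simp only [neg_00, neg_01, neg_10, neg_11, one_00, one_01, one_10, one_11] at this
        simpa [h4] using this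
    have he : σ g e = τ g • e := by
      have := hq 1 0
      rwa [qv_one_zero] at this
    have hf : σ g f = τ g • f := by
      have := hq 0 1
      rwa [qv_zero_one] at this
    have hh : σ g h = τ g • h := by
      have := hq 1 1
      rw [qv_one_one, map_add, map_add, he, hf, smul_add, smul_add] at this
      have h5 := add_left_injective (τ g • f) this
      exact add_left_cancel h5
    have hall : ∀ v, σ g v = τ g • v := by
      intro v
      obtain ⟨a, b, c, rfl⟩ := F.span v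
      rw [map_add, map_add, map_smul, map_smul, map_smul, he, hf, hh]
      module
    rcases hτ g with h3 | h3
    · left
      ext v
      rw [hall, h3]
      simp
    · right
      ext v
      rw [hall, h3]
      simp
  · rintro (h3 | h3)
    · have h4 : Rep3 e h f (σ g) (1 : k) (1 : SL(2, k)) := by
        rw [h3]
        exact hrep1
      obtain ⟨-, h5⟩ := F.rep_uniq h2 h4 (hrep g) one_ne_zero
      exact h5
    · have h4 : Rep3 e h f (σ g) (-1 : k) (1 : SL(2, k)) := by
        rw [h3]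
        exact hrepm1
      obtain ⟨-, h5⟩ := F.rep_uniq h2 h4 (hrep g) (neg_ne_zero.2 one_ne_zero)
      exact h5

end Hom

end Cfsg.Agent.Lib.BrauerTuan
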