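import Cfsg.Agent.Lib.BrauerTuan.Core
import Cfsg.Agent.Lib.DefectOne.PerfectN1
import Cfsg.Agent.Lib.DefectOne.PSLOut
import Cfsg.Agent.Lib.DefectOne.Jordan

/-!
# The equality case of the degree bound
-/

set_option autoImplicit false
set_option linter.unusedSectionVars false
set_option linter.style.haveILetI false

namespace Cfsg.Agent.Lib.BrauerTuan

open Module Matrix Subgroup Cfsg.Agent.Lib.DefectOne
open scoped MatrixGroups
open Cfsg.Agent.Lib.PSL2.Basic

section Stable

variable {G V : Type*} [Group G] [Finite G] [AddCommGroup V] [Module ℂ V] [FiniteDimensional ℂ V]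
variable {p : ℕ} [hp : Fact p.Prime]

/-- A stable subspace on which `x` acts nontrivially is large. -/
lemma card_expSet_le_stable (σ : G →* End ℂ V) (T : Subgroup G) {x : T} (hx : orderOf x = p)
    (U : Submodule ℂ V) (hU : KStable σ T U) (hne : ∃ u ∈ U, σ x.1 u ≠ u) :
    (expSet x p).card ≤ finrank ℂ U := by
  let σU : T →* End ℂ U :=
    { toFun := fun t => (σ t.1).restrict (hU t.1 t.2)
      map_one' := by
        ext a
        simp [LinearMap.restrict_apply]
      map_mul' := fun g g' => by
        ext a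
        simp [LinearMap.restrict_apply, Module.End.mul_apply] }
  apply card_expSet_le hx σU
  intro h
  obtain ⟨u, hu, hne'⟩ := hne
  apply hne'
  have := LinearMap.congr_fun h ⟨u, hu⟩
  exact congrArg Subtype.val this

/-- The module is irreducible for a subgroup with many conjugates of `x`. -/
lemma eq_top_of_stable (σ : G →* End ℂ V) (T : Subgroup G) {x : T} (hx : orderOf x = p)
    (hσx : σ x.1 ≠ 1) (hcard : finrank ℂ V ≤ (expSet x p).card) (U : Submodule ℂ V)
    (hU : KStable σ T U) (hU0 : U ≠ ⊥) : U = ⊤ := by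
  have hK : (Nat.card T : ℂ) ≠ 0 := by
    exact_mod_cast (Nat.card_pos (α := T)).ne'
  obtain ⟨U', hU', -, hinf, hsup⟩ := exists_stable_compl σ hK (U := ⊤) (U' := U)
    (fun _ _ _ _ => trivial) hU le_top
  by_cases hne : ∃ u ∈ U, σ x.1 u ≠ u
  · have h1 := card_expSet_le_stable σ T hx U hU hne
    exact Submodule.eq_top_of_finrank_eq (le_antisymm (Submodule.finrank_le U) (hcard.trans h1))
  · push Not at hne
    exfalso
    have hne' : ∃ u ∈ U', σ x.1 u ≠ u := by
      by_contra hc
      push Not at hc
      apply hσx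
      ext1 v
      have hv : v ∈ U ⊔ U' := by rw [hsup]; trivial
      obtain ⟨a, ha, b, hb, rfl⟩ := Submodule.mem_sup.1 hv
      rw [map_add, hne a ha, hc b hb]
      rfl
    have h1 := card_expSet_le_stable σ T hx U' hU' hne'
    have h2 : U' = ⊤ :=
      Submodule.eq_top_of_finrank_eq (le_antisymm (Submodule.finrank_le U') (hcard.trans h1))
    rw [h2, inf_top_eq] at hinf
    exact hU0 hinf

end Stable

section Main

variable {G : Type*} [Group G] [Finite G] {n p : ℕ} [hp : Fact p.Prime]

/-- Powers of an element of prime order generate it. -/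
lemma mem_of_pow_mem {H : Type*} [Group H] {y : H} (hy : orderOf y = p) {C : Subgroup H} {c : ℕ}
    (hc0 : 0 < c) (hcp : c < p) (h : y ^ c ∈ C) : y ∈ C := by
  have hco : Nat.Coprime c p := ((Nat.Prime.coprime_iff_not_dvd hp.out).2
      (fun hd => absurd (Nat.le_of_dvd hc0 hd) (by omega))).symm
  obtain ⟨m, hm⟩ := Nat.exists_mul_mod_eq_one_of_coprime hco hp.out.one_lt
  have h1 : y = (y ^ c) ^ m := by
    rw [← pow_mul, ← pow_mod_orderOf, hy, hm.2, pow_one]
  rw [h1]
  exact C.pow_mem h m

/-- **The equality case**. -/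
theorem psl_of_faithful (R : G →* Matrix (Fin n) (Fin n) ℂ) (hinj : Function.Injective R)
    (hirr : ∀ v : Fin n → ℂ, v ≠ 0 → Submodule.span ℂ (Set.range fun g => R g *ᵥ v) = ⊤)
    (hn : 0 < n) {x : G} (hx : orderOf x = p) (hsq : ¬ p ^ 2 ∣ Nat.card G)
    (hnn : ¬ (zpowers x).Normal) (hdim : 2 * n + 1 = p) (hp5 : 5 ≤ p) :
    Nonempty ((G ⧸ center G) ≃* PSL(2, ZMod p)) := by
  classical
  obtain ⟨k, _, _, ψ, hψx, hker⟩ := exists_psl_of_matrix R hinj hirr hn hx hsq hnn hdim.le
  obtain ⟨hsyl, kk, hcard, hk, hkE⟩ := psl_numbers ψ hx hsq hψx hker hnn hp5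
  haveI hfinR : Finite ψ.range := Finite.of_surjective ψ.rangeRestrict ψ.rangeRestrict_surjective
  have hx1 : x ≠ 1 := by
    rintro rfl
    rw [orderOf_one] at hx
    exact hp.out.one_lt.ne hx
  have hσ : toEnd R x ≠ 1 := by
    intro h
    apply hx1
    apply toEnd_injective hinj
    rw [h, map_one]
  have hE := card_expSet_le hx (toEnd R) hσ
  rw [Module.finrank_fin_fun] at hE
  have hkk : kk = n := by
    have h1 := hkE.trans hE
    omega
  -- the normal closure
  set T : Subgroup G := normalClosure ({x} : Set G) with hT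
  have hxT : x ∈ T := subset_normalClosure rfl
  haveI hTn : T.Normal := normalClosure_normal
  let xT : T := ⟨x, hxT⟩
  have hxTo : orderOf xT = p := by
    rw [← hx]
    exact Subgroup.orderOf_mk x hxT
  have hsqT : ¬ p ^ 2 ∣ Nat.card T := fun h => hsq (h.trans (Subgroup.card_subgroup_dvd_card T))
  have hnnT : ¬ (zpowers xT).Normal := by
    intro hN
    apply hnn
    apply normal_zpowers_of_conj
    intro w
    have hz : w * x * w⁻¹ ∈ T := hTn.conj_mem x hxT w
    let zT : T := ⟨w * x * w⁻¹, hz⟩
    have hzT : orderOf zT = p := by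
      apply orderOf_eq_prime
      · apply Subtype.ext
        show (w * x * w⁻¹) ^ p = 1
        rw [conj_pow, ← hx, pow_orderOf_eq_one]
        group
      · intro h
        have h1 : w * x * w⁻¹ = 1 := congrArg Subtype.val h
        apply hx1
        have h2 : x = w⁻¹ * (w * x * w⁻¹) * w := by group
        rw [h2, h1]
        group
    have hP1 : IsPGroup p (zpowers xT) := by
      rw [IsPGroup.iff_card]
      exact ⟨1, by rw [Nat.card_zpowers, hxTo, pow_one]⟩
    have hP2 : IsPGroup p (zpowers zT) := by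
      rw [IsPGroup.iff_card]
      exact ⟨1, by rw [Nat.card_zpowers, hzT, pow_one]⟩
    have hsup : IsPGroup p (zpowers xT ⊔ zpowers zT : Subgroup T) := hP1.to_sup_of_normal_left hP2
    have h1 := eq_zpowers_of_isPGroup hxTo hsqT hsup le_sup_left
    have h2 : zT ∈ zpowers xT := by
      rw [h1]
      exact (le_sup_right : zpowers zT ≤ _) (mem_zpowers zT)
    obtain ⟨i, hi⟩ := mem_zpowers_iff.1 h2
    refine mem_zpowers_iff.2 ⟨i, ?_⟩
    have := congrArg Subtype.val hi
    simpa [xT, zT] using this
  let ψT : T →* PSL(2, k) := ψ.comp T.subtype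
  have hψT : ψT xT ≠ 1 := hψx
  have hkerT : ∀ g, ψT g = 1 → g * xT = xT * g := by
    intro g hg
    exact Subtype.ext (hker g.1 hg)
  obtain ⟨-, kkT, hcardT, hkT, hkET⟩ := psl_numbers ψT hxTo hsqT hψT hkerT hnnT hp5
  let RT : T →* Matrix (Fin n) (Fin n) ℂ := R.comp T.subtype
  have hσT : toEnd RT xT ≠ 1 := hσ
  have hET := card_expSet_le hxTo (toEnd RT) hσT
  rw [Module.finrank_fin_fun] at hET
  have hkkT : kkT = n := by
    have h1 := hkET.trans hET
    omega
  have hrange : ψT.range = ψ.range := by
    apply Subgroup.eq_of_le_of_card_ge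
    · rintro _ ⟨t, rfl⟩
      exact ⟨t.1, rfl⟩
    · rw [hcard, hcardT, hkk, hkkT]
  have hsurjT : ∀ g : G, ∃ t ∈ T, ψ g = ψ t := by
    intro g
    have h1 : ψ g ∈ ψT.range := by
      rw [hrange]
      exact ⟨g, rfl⟩
    obtain ⟨t, ht⟩ := h1
    exact ⟨t.1, t.2, ht.symm⟩
  let f : G →* ψ.range := ψ.rangeRestrict
  have hf : Function.Surjective f := ψ.rangeRestrict_surjective
  have hfx : f x ≠ 1 := fun h => hψx (congrArg Subtype.val h)
  have hker' : ∀ g, f g = 1 → g * x = x * g := fun g h => hker g (congrArg Subtype.val h)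
  have hy : orderOf (f x) = p := orderOf_map_eq hx hfx
  have hsqH : ¬ p ^ 2 ∣ Nat.card ψ.range := not_sq_dvd_image hf hsq
  have hn2 : 2 ≤ n := by omega
  have hE1 : 1 < (expSet x p).card := by omega
  obtain ⟨c, hcE, hc1⟩ := Finset.exists_mem_ne hE1 1
  obtain ⟨hcp, w, hw⟩ := mem_expSet.1 hcE
  have hc0 : c ≠ 0 := by
    rintro rfl
    rw [pow_zero] at hw
    apply hx1
    have h2 : x = w⁻¹ * (w * x * w⁻¹) * w := by group
    rw [h2, hw]
    group
  have hperf : commutator ψ.range = ⊤ := by
    have hyc : f x ^ (c - 1) ∈ commutator ψ.range := by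
      have h1 : f w * f x * (f w)⁻¹ = f x ^ c := by
        rw [← map_pow, ← hw, map_mul, map_mul, map_inv]
      have h2 : f w * f x * (f w)⁻¹ * (f x)⁻¹ = f x ^ (c - 1) := by
        rw [h1]
        obtain ⟨c', rfl⟩ : ∃ c', c = c' + 1 := ⟨c - 1, by omega⟩
        rw [pow_succ, Nat.add_sub_cancel]
        group
      have h4 := Subgroup.commutator_mem_commutator (Subgroup.mem_top (f w)) (Subgroup.mem_top (f x))
      rw [commutatorElement_def, h2] at h4
      exact h4
    have hyC : f x ∈ commutator ψ.range := mem_of_pow_mem hy (by omega) (by omega) hyc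
    have hL : T ≤ (commutator ψ.range).comap f := normalClosure_le_normal (by
      rintro _ rfl
      exact hyC)
    rw [eq_top_iff]
    intro h _
    obtain ⟨g, rfl⟩ := hf h
    obtain ⟨t, ht, hgt⟩ := hsurjT g
    have h1 : f g = f t := Subtype.ext hgt
    rw [h1]
    exact hL ht
  have hQg : IsPGroup p (zpowers (f x)) := by
    rw [IsPGroup.iff_card]
    exact ⟨1, by rw [Nat.card_zpowers, hy, pow_one]⟩
  obtain ⟨P, hQle⟩ := hQg.exists_le_sylow
  have hQP := eq_zpowers_of_isPGroup hy hsqH P.isPGroup' hQle
  have hPc : Nat.card P = p := by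
    have h1 : Nat.card (P : Subgroup ψ.range) = p := by
      rw [← hQP, Nat.card_zpowers, hy]
    exact h1
  have hbig : Nat.card ψ.range < p ^ 3 := by
    rw [hcard, hkk, ← hdim]
    have h1 : (2 * n + 1) ^ 3 = (2 * n + 1) * n * (2 * n + 1 + 1) + (2 * n + 1) * (2 * n ^ 2 + 2 * n + 1) := by
      ring
    have h2 : 0 < (2 * n + 1) * (2 * n ^ 2 + 2 * n + 1) := by positivity
    omega
  obtain ⟨h3, φ, hφ⟩ := PerfectN1.surj_of_card hperf P hPc hsyl hbig
  have hcPSL := card_psl_zmod (p := p) h3
  have hcEq : Nat.card ψ.range = Nat.card PSL(2, ZMod p) := by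
    have h1 : p ^ 2 = 2 * n * (p + 1) + 1 := by
      rw [← hdim]
      ring
    have h2 : p ^ 2 - 1 = 2 * n * (p + 1) := by omega
    rw [h2] at hcPSL
    have h4 : Nat.card ψ.range * 2 = Nat.card PSL(2, ZMod p) * 2 := by
      rw [hcPSL, hcard, hkk]
      ring
    omega
  have hφinj : Function.Injective φ := ((Nat.bijective_iff_surjective_and_card φ).2 ⟨hφ, hcEq⟩).1
  let ψ₀ : G →* PSL(2, ZMod p) := φ.comp f
  have hψ₀ : Function.Surjective ψ₀ := hφ.comp hf
  have hZ : center G = ψ₀.ker := by
    apply le_antisymm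
    · intro g hg
      rw [MonoidHom.mem_ker]
      have hfg : f g = 1 := by
        by_contra hne
        have hcg : f g * f x = f x * f g := by
          rw [← map_mul, ← map_mul, (Subgroup.mem_center_iff.1 hg x).symm]
        let D := DpGen.dp ψ.range p
        obtain ⟨-, hQPP⟩ := isP_zpowers D hy hsqH
        have hmem : f g ∈ zpowers (f x) := hQPP.ca (f x) (mem_zpowers _) hfx (f g) hcg
        obtain ⟨i, hi, hi'⟩ := mem_zpowers_pow hmem
        rw [hy] at hi
        have hi0 : 0 < i := by
          rcases Nat.eq_zero_or_pos i with h0 | h0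
          · rw [h0, pow_zero] at hi'
            exact absurd hi'.symm hne
          · exact h0
        have hymem : f x ∈ zpowers (f g) :=
          mem_of_pow_mem hy hi0 hi (by rw [hi']; exact mem_zpowers _)
        apply not_normal_image hf hx hsq hfx hker' hnn
        apply normal_zpowers_of_conj
        intro h
        obtain ⟨h₀, rfl⟩ := hf h
        obtain ⟨j, hj⟩ := mem_zpowers_iff.1 hymem
        have hcm : Commute (f h₀) (f g) := by
          show f h₀ * f g = f g * f h₀
          rw [← map_mul, ← map_mul, Subgroup.mem_center_iff.1 hg h₀]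
        have h5 : f h₀ * f x * (f h₀)⁻¹ = f x := by
          rw [← hj, (hcm.zpow_right j).eq]
          group
        rw [h5]
        exact mem_zpowers _
      show φ (f g) = 1
      rw [hfg, map_one]
    · intro g hg
      have hfg : f g = 1 := by
        apply hφinj
        rw [map_one]
        exact hg
      have hψg : ψ g = 1 := congrArg Subtype.val hfg
      have hC : T ≤ centralizer (ψ.ker : Set G) := normalClosure_le_normal (by
        rintro _ rfl
        rw [SetLike.mem_coe, Subgroup.mem_centralizer_iff]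
        intro a ha
        exact hker a ha)
      have hgt : ∀ t ∈ T, g * t = t * g := fun t ht =>
        (Subgroup.mem_centralizer_iff.1 (hC ht)) g hψg
      haveI : Nonempty (Fin n) := ⟨⟨0, hn⟩⟩
      obtain ⟨lam, hlam⟩ := Module.End.exists_eigenvalue (toEnd R g)
      have hE0 : (toEnd R g).eigenspace lam ≠ ⊥ := hlam
      have hstab : KStable (toEnd R) T ((toEnd R g).eigenspace lam) := by
        intro t ht v hv
        rw [Module.End.mem_eigenspace_iff] at hv ⊢
        rw [← Module.End.mul_apply, ← map_mul, hgt t ht, map_mul, Module.End.mul_apply, hv, map_smul]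
      have htop := eq_top_of_stable (toEnd R) T (x := xT) hxTo hσ
        (by rw [Module.finrank_fin_fun, ← hkkT]; exact hkET) _ hstab hE0
      have hall : ∀ v, toEnd R g v = lam • v := by
        intro v
        have hv : v ∈ (toEnd R g).eigenspace lam := by
          rw [htop]
          trivial
        exact Module.End.mem_eigenspace_iff.1 hv
      rw [Subgroup.mem_center_iff]
      intro h
      apply toEnd_injective hinj
      rw [map_mul, map_mul]
      refine LinearMap.ext fun v => ?_
      rw [Module.End.mul_apply, Module.End.mul_apply, hall, hall, map_smul]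
  exact ⟨(QuotientGroup.quotientMulEquivOfEq hZ).trans
    (QuotientGroup.quotientKerEquivOfSurjective ψ₀ hψ₀)⟩

end Main

end Cfsg.Agent.Lib.BrauerTuan
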