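import Mathlib
import Cfsg.Agent.Lib.DefectOne.Jordan

/-!
# The relative trace from the normaliser of a subgroup of prime order

If `P = ⟨x⟩` and `g⁻¹ x g ∈ M` implies `g ∈ M`, the relative trace from `M` of `c` is `c` plus norms from `P`.
-/

set_option autoImplicit false
set_option linter.unusedSectionVars false
set_option linter.style.haveILetI false

namespace Cfsg.Agent.Lib.BrauerTuan

open Module Cfsg.Agent.Lib.DefectOne

variable {G : Type*} [Group G] {k : Type*} [Field k] {Y : Type*} [AddCommGroup Y] [Module k Y]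

/-- The norm from `⟨x⟩`, in terms of `X`, `X⁻¹`. -/
noncomputable def normX (X Xi b : End k Y) (p : ℕ) : End k Y :=
  ∑ i ∈ Finset.range p, X ^ i * b * Xi ^ i

/-- The span of the norms. -/
noncomputable def normSpan (X Xi : End k Y) (p : ℕ) : Submodule k (End k Y) :=
  Submodule.span k (Set.range fun b => normX X Xi b p)

lemma normX_mem (X Xi b : End k Y) (p : ℕ) : normX X Xi b p ∈ normSpan X Xi p :=
  Submodule.subset_span ⟨b, rfl⟩

lemma sum_zpowers_conj (ρ : G →* End k Y) {p : ℕ} [hp : Fact p.Prime] {x : G} (hx : orderOf x = p)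
    [Fintype (Subgroup.zpowers x)] (b : End k Y) :
    ∑ u : Subgroup.zpowers x, ρ (u : G) * b * ρ (u : G)⁻¹ = normX (ρ x) (ρ x⁻¹) b p := by
  have hfin : IsOfFinOrder x := isOfFinOrder_iff_pow_eq_one.2 ⟨p, hp.out.pos, by
    rw [← hx, pow_orderOf_eq_one]⟩
  rw [← Equiv.sum_comp (finEquivZPowers hfin)]
  unfold normX
  rw [← hx, Finset.sum_range]
  refine Finset.sum_congr rfl fun i _ => ?_
  simp only [finEquivZPowers_apply, map_pow]
  rw [← inv_pow, map_pow]

variable [Finite G]

/-- The relative trace decomposed by the orbits of `P`. -/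
theorem relTr_sub_mem (ρ : G →* End k Y) {p : ℕ} [hp : Fact p.Prime] {x : G} (hx : orderOf x = p)
    {M : Subgroup G} (hxM : x ∈ M) (hTI : ∀ g : G, g⁻¹ * x * g ∈ M → g ∈ M) {c : End k Y}
    (hc : ∀ t ∈ M, c * ρ t = ρ t * c) :
    relTr ρ M c - c ∈ normSpan (ρ x) (ρ x⁻¹) p := by
  classical
  letI : Fintype (G ⧸ M) := Fintype.ofFinite _
  let P := Subgroup.zpowers x
  letI : Fintype P := Fintype.ofFinite _
  have hPM : P ≤ M := (Subgroup.zpowers_le).2 hxM
  have hPcard : Nat.card P = p := by
    rw [Nat.card_zpowers, hx]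
  have hPprime : (Nat.card P).Prime := by rw [hPcard]; exact hp.out
  let q₀ : G ⧸ M := ((1 : G) : G ⧸ M)
  have hfix : ∀ g : G, (((x * g : G) : G ⧸ M) = ((g : G) : G ⧸ M)) → ((g : G) : G ⧸ M) = q₀ := by
    intro g hg
    have h2 : g⁻¹ * x * g ∈ M := by
      have := (QuotientGroup.eq.1 hg.symm)
      simpa [mul_assoc] using this
    have h3 := hTI g h2
    apply QuotientGroup.eq.2
    simpa using h3
  have hq₀ : ∀ u : P, u • q₀ = q₀ := by
    intro u
    show (((u : G) * 1 : G) : G ⧸ M) = _
    apply QuotientGroup.eq.2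
    simpa using M.inv_mem (hPM u.2)
  let Z := {q : G ⧸ M // q ≠ q₀}
  have hsmul : ∀ (u : P) (q : Z), u • q.1 ≠ q₀ := by
    intro u q h
    apply q.2
    have h1 : u⁻¹ • (u • q.1) = q.1 := inv_smul_smul u q.1
    rw [h, hq₀] at h1
    exact h1.symm
  letI : MulAction P Z :=
    { smul := fun u q => ⟨u • q.1, hsmul u q⟩
      one_smul := fun q => Subtype.ext (one_smul _ _)
      mul_smul := fun a b q => Subtype.ext (mul_smul a b q.1) }
  have hsm : ∀ (u : P) (q : Z), (u • q : Z).1 = u • q.1 := fun _ _ => rfl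
  have hfree : ∀ (y : Z) (u : P), u • y = y → u = 1 := by
    intro y u hu
    by_contra hne
    haveI : Fact (Nat.card P).Prime := ⟨hPprime⟩
    have hS : (MulAction.stabilizer P y.1) = ⊤ := by
      rcases Subgroup.eq_bot_or_eq_top_of_prime_card (MulAction.stabilizer P y.1) with h | h
      · exfalso
        apply hne
        have : u ∈ MulAction.stabilizer P y.1 := congrArg Subtype.val hu
        rw [h] at this
        simpa using this
      · exact h
    apply y.2
    have hx' : (⟨x, Subgroup.mem_zpowers x⟩ : P) ∈ MulAction.stabilizer P y.1 := by rw [hS]; trivial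
    have h1 : (⟨x, Subgroup.mem_zpowers x⟩ : P) • y.1 = y.1 := hx'
    obtain ⟨g, hg⟩ := QuotientGroup.mk_surjective y.1
    rw [← hg]
    apply hfix
    rw [← hg] at h1
    exact h1
  letI : Fintype Z := Fintype.ofFinite _
  obtain ⟨R, hR⟩ := exists_sum_free_action (U := P) (Y := Z) (A := End k Y) hfree
  have hcj1 : cj ρ q₀.out c = c := by
    have := cj_out ρ hc 1
    rw [this]
    simp [cj]
  have hsplit : relTr ρ M c = c + ∑ y : Z, cj ρ y.1.out c := by
    unfold relTr
    rw [← Finset.add_sum_erase Finset.univ _ (Finset.mem_univ q₀), hcj1]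
    congr 1
    refine Finset.sum_subtype _ (fun q => ?_) (fun q : G ⧸ M => cj ρ q.out c)
    simp
  rw [hsplit, add_sub_cancel_left, hR]
  refine Submodule.sum_mem _ fun r _ => ?_
  have h1 : ∀ u : P, cj ρ (u • r : Z).1.out c = ρ (u : G) * (cj ρ r.1.out c) * ρ (u : G)⁻¹ := by
    intro u
    have h2 : (u • r : Z).1 = ((((u : G) * r.1.out : G)) : G ⧸ M) := by
      rw [hsm]
      conv_lhs => rw [← QuotientGroup.out_eq' r.1]
      rfl
    rw [h2, cj_out ρ hc, cj_mul]
  rw [Finset.sum_congr rfl (fun u _ => h1 u), sum_zpowers_conj ρ hx]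
  exact normX_mem _ _ _ _

section Norm

variable {p : ℕ} [hp : Fact p.Prime] [CharP k p] {X Xi : End k Y}

/-- A norm commutes with `X`. -/
lemma normX_comm (hX : X * Xi = 1) (hXi : Xi * X = 1) (hXp : X ^ p = 1) (b : End k Y) :
    normX X Xi b p * X = X * normX X Xi b p := by
  have hXip : Xi ^ p = 1 := by
    have h1 : Xi ^ p * X ^ p = 1 := by
      rw [← (show Commute Xi X from hXi.trans hX.symm).mul_pow, hXi, one_pow]
    rwa [hXp, mul_one] at h1
  let F : ℕ → End k Y := fun i => X ^ i * b * Xi ^ i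
  have h1 : ∑ i ∈ Finset.range p, F (i + 1) + F 0 = ∑ i ∈ Finset.range p, F i + F p := by
    rw [← Finset.sum_range_succ', Finset.sum_range_succ]
  have hF : F p = F 0 := by simp [F, hXp, hXip]
  rw [hF] at h1
  have h2 := add_right_cancel h1
  have key : X * normX X Xi b p * Xi = normX X Xi b p := by
    unfold normX
    rw [Finset.mul_sum, Finset.sum_mul]
    rw [← show ∑ i ∈ Finset.range p, F (i + 1) = ∑ i ∈ Finset.range p, X ^ i * b * Xi ^ i from h2]
    refine Finset.sum_congr rfl fun i _ => ?_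
    simp only [F]
    rw [pow_succ' X, pow_succ Xi]
    simp only [mul_assoc]
  calc normX X Xi b p * X = (X * normX X Xi b p * Xi) * X := by rw [key]
    _ = X * normX X Xi b p := by rw [mul_assoc, hXi, mul_one]

lemma sum_pow_eq_zero [FiniteDimensional k Y] (hδ : (X - 1) ^ (p - 1) = 0) :
    ∑ i ∈ Finset.range p, X ^ i = 0 := by
  rw [geom_eq_pow, hδ]

lemma sum_pow_inv_eq_zero [FiniteDimensional k Y] (hX : X * Xi = 1) (hXi : Xi * X = 1)
    (hδ : (X - 1) ^ (p - 1) = 0) : ∑ i ∈ Finset.range p, Xi ^ i = 0 := by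
  rw [geom_eq_pow]
  have h1 : Xi - 1 = -Xi * (X - 1) := by
    rw [neg_mul, mul_sub, hXi, mul_one]; abel
  have hc : Commute (-Xi) (X - 1) := by
    refine Commute.neg_left ?_
    exact (show Commute Xi X from hXi.trans hX.symm).sub_right (Commute.one_right _)
  rw [h1, hc.mul_pow, hδ, mul_zero]

/-- A norm maps into the range of `X - 1`. -/
lemma normX_mem_range [FiniteDimensional k Y] (hX : X * Xi = 1) (hXi : Xi * X = 1)
    (hδ : (X - 1) ^ (p - 1) = 0) (b : End k Y) (v : Y) :
    normX X Xi b p v ∈ LinearMap.range (X - 1) := by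
  have h1 : ∀ i : ℕ, ∃ g : End k Y, X ^ i = 1 + (X - 1) * g := by
    intro i
    refine ⟨∑ j ∈ Finset.range i, X ^ j, ?_⟩
    rw [mul_geom_sum]
    abel
  choose g hg using h1
  have h2 : normX X Xi b p v = b ((∑ i ∈ Finset.range p, Xi ^ i) v) +
      (X - 1) (∑ i ∈ Finset.range p, g i (b ((Xi ^ i) v))) := by
    unfold normX
    rw [LinearMap.sum_apply, LinearMap.sum_apply, map_sum, map_sum, ← Finset.sum_add_distrib]
    refine Finset.sum_congr rfl fun i _ => ?_
    simp only [Module.End.mul_apply]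
    rw [hg i]
    simp [Module.End.mul_apply]
  rw [h2, sum_pow_inv_eq_zero hX hXi hδ]
  simp only [LinearMap.zero_apply, map_zero, zero_add]
  exact ⟨_, rfl⟩

/-- A norm kills the fixed vectors. -/
lemma normX_apply_fixed [FiniteDimensional k Y] (hXi : Xi * X = 1) (hδ : (X - 1) ^ (p - 1) = 0)
    (b : End k Y) {v : Y} (hv : X v = v) : normX X Xi b p v = 0 := by
  have h1 : Xi v = v := by
    have := LinearMap.congr_fun hXi v
    simp only [Module.End.mul_apply, hv, Module.End.one_apply] at this
    exact this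
  have h2 : ∀ i : ℕ, (Xi ^ i) v = v := by
    intro i
    induction i with
    | zero => simp
    | succ i ih => rw [pow_succ, Module.End.mul_apply, h1, ih]
  have h3 : normX X Xi b p v = (∑ i ∈ Finset.range p, X ^ i) (b v) := by
    unfold normX
    rw [LinearMap.sum_apply, LinearMap.sum_apply]
    refine Finset.sum_congr rfl fun i _ => ?_
    simp only [Module.End.mul_apply, h2]
  rw [h3, sum_pow_eq_zero hδ]
  rfl

end Norm

section Ad

variable {D : Type*} [AddCommGroup D] [Module k D]

/-- The conjugation action on `End k D`. -/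
noncomputable def adHom (ρ : G →* End k D) : G →* End k (End k D) where
  toFun g := LinearMap.mulLeft k (ρ g) ∘ₗ LinearMap.mulRight k (ρ g⁻¹)
  map_one' := by
    ext a : 1
    simp
  map_mul' a b := by
    ext c : 1
    simp [mul_assoc]

lemma adHom_apply (ρ : G →* End k D) (g : G) (a : End k D) : adHom ρ g a = ρ g * a * ρ g⁻¹ := by
  simp [adHom, mul_assoc]

lemma adHom_pow_apply (ρ : G →* End k D) (g : G) (i : ℕ) (a : End k D) :
    (adHom ρ g ^ i) a = ρ g ^ i * a * ρ g⁻¹ ^ i := by
  rw [← map_pow, adHom_apply, map_pow, ← inv_pow, map_pow]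

variable {p : ℕ} [hp : Fact p.Prime] [CharP k p]

/-- The norm on `End k D` vanishes when `Ad x - 1` is small. -/
lemma normX_eq_zero [FiniteDimensional k D] (ρ : G →* End k D) (x : G)
    (hδ : (adHom ρ x - 1) ^ (p - 1) = 0) (b : End k D) : normX (ρ x) (ρ x⁻¹) b p = 0 := by
  have h1 : normX (ρ x) (ρ x⁻¹) b p = (∑ i ∈ Finset.range p, adHom ρ x ^ i) b := by
    unfold normX
    rw [LinearMap.sum_apply]
    refine Finset.sum_congr rfl fun i _ => ?_
    rw [adHom_pow_apply]
  rw [h1, sum_pow_eq_zero hδ]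
  rfl

/-- Nilpotency of `Ad x - 1`. -/
lemma adHom_sub_one_pow (ρ : G →* End k D) (x : G) {s : ℕ} (hs : (ρ x - 1) ^ s = 0) {l : ℕ}
    (hl : s + s ≤ l + 1) : (adHom ρ x - 1) ^ l = 0 := by
  set X := ρ x with hX
  set Xi := ρ x⁻¹ with hXi
  have hXXi : X * Xi = 1 := by rw [hX, hXi, ← map_mul, mul_inv_cancel, map_one]
  have hXiX : Xi * X = 1 := by rw [hX, hXi, ← map_mul, inv_mul_cancel, map_one]
  let L : End k (End k D) := LinearMap.mulLeft k X
  let R : End k (End k D) := LinearMap.mulRight k Xi
  have hLR : Commute L R := by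
    ext a : 1
    simp [L, R, mul_assoc, Module.End.mul_apply]
  have hA : adHom ρ x = L * R := by
    ext a : 1
    simp [L, R, adHom_apply, hX, hXi, Module.End.mul_apply, mul_assoc]
  let α : End k (End k D) := (L - 1) * R
  let β : End k (End k D) := R - 1
  have hsum : adHom ρ x - 1 = α + β := by
    rw [hA]
    simp only [α, β]
    rw [sub_mul, one_mul]
    abel
  have hαβ : Commute α β := by
    have h1 : Commute (L - 1) R := hLR.sub_left (Commute.one_left _)
    have h2 : Commute (L - 1) (R - 1) := h1.sub_right (Commute.one_right _)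
    have h3 : Commute R (R - 1) := (Commute.refl R).sub_right (Commute.one_right _)
    exact h2.mul_left h3
  have hLpow : ∀ n : ℕ, (L - 1) ^ n = LinearMap.mulLeft k ((X - 1) ^ n) := by
    intro n
    induction n with
    | zero =>
      ext a : 1
      simp
    | succ n ih =>
      rw [pow_succ, ih, pow_succ]
      ext a : 1
      simp [L, Module.End.mul_apply, sub_mul]
  have hRpow : ∀ n : ℕ, (R - 1) ^ n = LinearMap.mulRight k ((Xi - 1) ^ n) := by
    intro n
    induction n with
    | zero =>
      ext a : 1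
      simp
    | succ n ih =>
      rw [pow_succ, ih, pow_succ']
      ext a : 1
      simp [R, Module.End.mul_apply, mul_assoc, mul_sub]
      rw [sub_mul, mul_assoc]
  have hα : α ^ s = 0 := by
    have h1 : Commute (L - 1) R := hLR.sub_left (Commute.one_left _)
    simp only [α]
    rw [h1.mul_pow, hLpow, hs]
    ext a : 1
    simp
  have hXis : (Xi - 1) ^ s = 0 := by
    have h1 : Xi - 1 = -Xi * (X - 1) := by
      rw [neg_mul, mul_sub, hXiX, mul_one]; abel
    have hc : Commute (-Xi) (X - 1) := by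
      refine Commute.neg_left ?_
      exact (show Commute Xi X from hXiX.trans hXXi.symm).sub_right (Commute.one_right _)
    rw [h1, hc.mul_pow, hs, mul_zero]
  have hβ : β ^ s = 0 := by
    simp only [β]
    rw [hRpow, hXis]
    ext a : 1
    simp
  rw [hsum]
  exact hαβ.add_pow_eq_zero_of_add_le_succ_of_pow_eq_zero hα hβ hl

end Ad

end Cfsg.Agent.Lib.BrauerTuan
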