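import Mathlib
import Cfsg.Agent.Lib.BrauerTuan.Relative
import Cfsg.Agent.Lib.BrauerTuan.Lift

/-!
# A three dimensional quadratic `G`-submodule of `End k D`
-/

set_option autoImplicit false
set_option linter.unusedSectionVars false
set_option linter.style.haveILetI false

namespace Cfsg.Agent.Lib.BrauerTuan

open Module Cfsg.Agent.Lib.DefectOne

variable {k : Type*} [Field k] {D : Type*} [AddCommGroup D] [Module k D]

/-- The trace form. -/
noncomputable def trB (k : Type*) [Field k] (D : Type*) [AddCommGroup D] [Module k D] :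
    LinearMap.BilinForm k (End k D) :=
  LinearMap.mk₂ k (fun a b => LinearMap.trace k D (a * b))
    (by intros; simp [add_mul]) (by intros; simp) (by intros; simp [mul_add]) (by intros; simp)

@[simp] lemma trB_apply (a b : End k D) : trB k D a b = LinearMap.trace k D (a * b) := rfl

lemma trB_comm (a b : End k D) : trB k D a b = trB k D b a := LinearMap.trace_mul_comm _ _ _

lemma trB_isRefl : (trB k D).IsRefl := fun a b h => by rw [trB_comm]; exact h

lemma trB_nondeg [FiniteDimensional k D] {a : End k D} (h : ∀ b, trB k D a b = 0) : a = 0 := by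
  classical
  let bas := Module.finBasis k D
  let e := LinearMap.toMatrixAlgEquiv (R := k) bas
  have h1 : e a = 0 := by
    apply Matrix.ext_iff_trace_mul_right.2
    intro M
    have h2 := h (e.symm M)
    rw [trB_apply, LinearMap.trace_eq_matrix_trace k bas] at h2
    have h3 : LinearMap.toMatrix bas bas (a * e.symm M) = e a * M := by
      have : e (a * e.symm M) = e a * M := by rw [map_mul, e.apply_symm_apply]
      exact this
    rw [h3] at h2
    rw [h2]
    simp
  exact e.injective (by rw [h1, map_zero])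

variable {G : Type*} [Group G] [Finite G] (ρ : G →* End k D)

lemma trB_ad (g : G) (a b : End k D) : trB k D (adHom ρ g a) (adHom ρ g b) = trB k D a b := by
  rw [trB_apply, trB_apply, adHom_apply, adHom_apply]
  have h1 : ρ g * a * ρ g⁻¹ * (ρ g * b * ρ g⁻¹) = ρ g * (a * b) * ρ g⁻¹ := by
    have : ρ g⁻¹ * ρ g = 1 := by rw [← map_mul, inv_mul_cancel, map_one]
    calc ρ g * a * ρ g⁻¹ * (ρ g * b * ρ g⁻¹) = ρ g * a * (ρ g⁻¹ * ρ g) * b * ρ g⁻¹ := by
          simp only [mul_assoc]
      _ = _ := by rw [this]; simp only [mul_one, mul_assoc]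
  rw [h1, LinearMap.trace_mul_comm, ← mul_assoc]
  have : ρ g⁻¹ * ρ g = 1 := by rw [← map_mul, inv_mul_cancel, map_one]
  rw [this, one_mul]

lemma trB_ad_left (g : G) (a b : End k D) : trB k D (adHom ρ g a) b = trB k D a (adHom ρ g⁻¹ b) := by
  have := trB_ad ρ g a (adHom ρ g⁻¹ b)
  rw [← this, ← Module.End.mul_apply (adHom ρ g), ← map_mul, mul_inv_cancel, map_one]
  rfl

section Main

variable {p : ℕ} [hp : Fact p.Prime] [CharP k p] [FiniteDimensional k D]
variable {ρ} {x : G} {M K : Subgroup G} {E b N : End k D}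

/-- The span of `E`, `b`, `N`. -/
noncomputable def W0 (E b N : End k D) : Submodule k (End k D) := Submodule.span k {E, b, N}

lemma mem_W0 {v : End k D} : v ∈ W0 E b N ↔ ∃ α β γ : k, v = α • E + β • b + γ • N := by
  unfold W0
  rw [Submodule.mem_span_insert]
  constructor
  · rintro ⟨α, z, hz, rfl⟩
    rw [Submodule.mem_span_insert] at hz
    obtain ⟨β, z', hz', rfl⟩ := hz
    rw [Submodule.mem_span_singleton] at hz'
    obtain ⟨γ, rfl⟩ := hz'
    exact ⟨α, β, γ, by abel⟩
  · rintro ⟨α, β, γ, rfl⟩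
    refine ⟨α, β • b + γ • N, ?_, by abel⟩
    rw [Submodule.mem_span_insert]
    refine ⟨β, γ • N, ?_, rfl⟩
    rw [Submodule.mem_span_singleton]
    exact ⟨γ, rfl⟩

/-- The Gram relations. -/
structure Chain (ρ : G →* End k D) (x : G) (E b N : End k D) : Prop where
  hE : adHom ρ x E = E + b
  hb : adHom ρ x b = b + (2 : k) • N
  hN : adHom ρ x N = N
  hτ : trB k D E N ≠ 0

namespace Chain

variable (hC : Chain ρ x E b N)
include hC

lemma bN (h2 : (2 : k) ≠ 0) : trB k D b N = 0 := by
  have h1 := trB_ad ρ x E N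
  rw [hC.hE, hC.hN, map_add, LinearMap.add_apply] at h1
  simpa using h1

lemma NN (h2 : (2 : k) ≠ 0) : trB k D N N = 0 := by
  have h1 := trB_ad ρ x b N
  rw [hC.hb, hC.hN, map_add, LinearMap.add_apply, map_smul, LinearMap.smul_apply] at h1
  have h3 : (2 : k) • trB k D N N = 0 := by
    have := add_left_cancel (a := trB k D b N) (b := (2 : k) • trB k D N N) (c := 0) (by rw [h1, add_zero])
    exact this
  exact (smul_eq_zero.1 h3).resolve_left h2

lemma bb (h2 : (2 : k) ≠ 0) : trB k D b b = -((2 : k) * trB k D E N) := by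
  have h1 := trB_ad ρ x E b
  rw [hC.hE, hC.hb] at h1
  simp only [map_add, LinearMap.add_apply, map_smul, LinearMap.smul_apply, smul_eq_mul] at h1
  have h3 := bN hC h2
  rw [h3] at h1
  linear_combination h1

lemma coords_zero (h2 : (2 : k) ≠ 0) {α β γ : k} (hv : ∀ n, n = E ∨ n = b ∨ n = N →
    trB k D n (α • E + β • b + γ • N) = 0) : α = 0 ∧ β = 0 ∧ γ = 0 := by
  have hτ := hC.hτ
  have hτ' : trB k D N E ≠ 0 := by rw [trB_comm]; exact hτ
  have h1 := hv N (by simp)
  simp only [map_add, map_smul, smul_eq_mul] at h1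
  rw [trB_comm N b, bN hC h2, NN hC h2, mul_zero, mul_zero, add_zero, add_zero] at h1
  have hα : α = 0 := (mul_eq_zero.1 h1).resolve_right hτ'
  subst hα
  have h3 := hv b (by simp)
  simp only [map_add, map_smul, smul_eq_mul, zero_mul, zero_add] at h3
  rw [bN hC h2, mul_zero, add_zero, bb hC h2] at h3
  have hβ : β = 0 := by
    rcases mul_eq_zero.1 h3 with h4 | h4
    · exact h4
    · exfalso
      have : (2 : k) * trB k D E N = 0 := neg_eq_zero.1 h4
      exact (mul_ne_zero h2 hτ) this
  subst hβ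
  have h5 := hv E (by simp)
  simp only [map_add, map_smul, smul_eq_mul, zero_mul, zero_add] at h5
  have hγ : γ = 0 := (mul_eq_zero.1 h5).resolve_right hτ
  exact ⟨rfl, rfl, hγ⟩

lemma E_mem : E ∈ W0 E b N := Submodule.subset_span (by simp)
lemma b_mem : b ∈ W0 E b N := Submodule.subset_span (by simp)
lemma N_mem : N ∈ W0 E b N := Submodule.subset_span (by simp)

lemma disjoint_W0 (h2 : (2 : k) ≠ 0) : Disjoint (W0 E b N) ((trB k D).orthogonal (W0 E b N)) := by
  rw [Submodule.disjoint_def]
  intro v hv hv'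
  obtain ⟨α, β, γ, rfl⟩ := mem_W0.1 hv
  have := coords_zero hC h2 (α := α) (β := β) (γ := γ) (by
    rintro n (rfl | rfl | rfl)
    · exact hv' _ (E_mem hC)
    · exact hv' _ (b_mem hC)
    · exact hv' _ (N_mem hC))
  obtain ⟨rfl, rfl, rfl⟩ := this
  simp

lemma isCompl_W0 (h2 : (2 : k) ≠ 0) : IsCompl (W0 E b N) ((trB k D).orthogonal (W0 E b N)) :=
  (LinearMap.BilinForm.isCompl_orthogonal_iff_disjoint trB_isRefl).2 (disjoint_W0 hC h2)

lemma finrank_W0 (h2 : (2 : k) ≠ 0) : finrank k (W0 E b N) = 3 := by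
  have hli : LinearIndependent k ![E, b, N] := by
    rw [Fintype.linearIndependent_iff]
    intro g hg
    rw [Fin.sum_univ_three] at hg
    simp only [Matrix.cons_val_zero, Matrix.cons_val_one, Matrix.cons_val] at hg
    have := coords_zero hC h2 (α := g 0) (β := g 1) (γ := g 2) (by
      intro n _
      rw [hg, map_zero])
    intro i
    fin_cases i
    · exact this.1
    · exact this.2.1
    · exact this.2.2
  have h3 := finrank_span_eq_card hli
  have h4 : Set.range ![E, b, N] = {E, b, N} := by
    ext v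
    constructor
    · rintro ⟨i, rfl⟩
      fin_cases i <;> simp
    · rintro (rfl | rfl | rfl)
      · exact ⟨0, rfl⟩
      · exact ⟨1, rfl⟩
      · exact ⟨2, rfl⟩
  rw [h4] at h3
  show finrank k (Submodule.span k {E, b, N}) = 3
  simpa using h3

lemma b_ne_zero (h2 : (2 : k) ≠ 0) : b ≠ 0 := by
  intro h0
  have := bb hC h2
  rw [h0] at this
  simp only [map_zero, LinearMap.zero_apply] at this
  have h3 : (2 : k) * trB k D E N = 0 := by
    have h4 := this.symm
    exact neg_eq_zero.1 h4
  exact (mul_ne_zero h2 hC.hτ) h3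

end Chain

/-- The output of the construction. -/
structure QuadOut (ρ : G →* End k D) (x : G) (N : End k D) (W : Submodule k (End k D)) : Prop where
  dim : finrank k W = 3
  stable : ∀ g : G, ∀ a ∈ W, adHom ρ g a ∈ W
  N_mem : N ∈ W
  nondeg : ∀ a ∈ W, (∀ c ∈ W, trB k D a c = 0) → a = 0
  act : ∃ v ∈ W, adHom ρ x v ≠ v

/-- **The main construction.** -/
theorem exists_quad (hC : Chain ρ x E b N) (h2 : (2 : k) ≠ 0) (hx : orderOf x = p) (hxM : x ∈ M)
    (hTI : ∀ g : G, g⁻¹ * x * g ∈ M → g ∈ M)
    (hstab : ∀ t ∈ M, ∀ a ∈ W0 E b N, adHom ρ t a ∈ W0 E b N)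
    {l : ℕ} (hl : l ≤ p - 1) (hδ : (adHom ρ x - 1) ^ l = 0) :
    ∃ W, QuadOut ρ x N W := by
  classical
  set ρA := adHom ρ with hρA
  set W₀ := W0 E b N with hW₀
  have hcompl := hC.isCompl_W0 h2
  set O := (trB k D).orthogonal W₀ with hO
  set π : End k (End k D) := W₀.projection O hcompl with hπdef
  have hπ_left : ∀ w ∈ W₀, π w = w := fun w hw => Submodule.projection_apply_of_mem_left hcompl hw
  have hπ_right : ∀ w ∈ O, π w = 0 := fun w hw => by
    rw [hπdef, Submodule.projection_apply, Submodule.projectionOnto_apply_of_mem_right hcompl hw]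
    rfl
  have hπ_mem : ∀ u, π u ∈ W₀ := fun u => Submodule.projection_apply_mem hcompl u
  have hdec : ∀ u, u - π u ∈ O := by
    intro u
    have h1 : u ∈ W₀ ⊔ O := by rw [hcompl.sup_eq_top]; trivial
    obtain ⟨a, ha, c, hc, rfl⟩ := Submodule.mem_sup.1 h1
    rw [map_add, hπ_left a ha, hπ_right c hc, add_zero, add_sub_cancel_left]
    exact hc
  have hππ : π * π = π := by
    ext1 u
    rw [Module.End.mul_apply, hπ_left _ (hπ_mem u)]
  have hOW : ∀ a ∈ W₀, ∀ c ∈ O, trB k D a c = 0 := fun a ha c hc => hc a ha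
  have hπself : ∀ u v, trB k D (π u) v = trB k D u (π v) := by
    intro u v
    have h1 : trB k D (π u) (v - π v) = 0 := hOW _ (hπ_mem u) _ (hdec v)
    have h2 : trB k D (π v) (u - π u) = 0 := hOW _ (hπ_mem v) _ (hdec u)
    rw [map_sub, sub_eq_zero] at h1 h2
    rw [h1, trB_comm u (π v), h2, trB_comm (π v) (π u)]
  have hπcomm : ∀ t ∈ M, π * ρA t = ρA t * π := by
    intro t ht
    ext1 u
    simp only [Module.End.mul_apply]
    have h1 : ρA t (u - π u) ∈ O := by
      rw [hO, LinearMap.BilinForm.mem_orthogonal_iff]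
      intro n hn
      have h3 := hstab t⁻¹ (M.inv_mem ht) n hn
      have h4 := LinearMap.BilinForm.mem_orthogonal_iff.1 (hdec u) _ h3
      rw [hρA, trB_ad_left, inv_inv] at h4
      exact h4
    have h5 : ρA t u = ρA t (π u) + ρA t (u - π u) := by
      rw [← map_add]
      congr 1
      abel
    rw [h5, map_add, hπ_left _ (hstab t ht _ (hπ_mem u)), hπ_right _ h1, add_zero]
  -- the relative trace
  set f := relTr ρA M π with hf
  set r := f - π with hr
  set X := ρA x with hX
  set Xi := ρA x⁻¹ with hXi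
  have hXXi : X * Xi = 1 := by rw [hX, hXi, ← map_mul, mul_inv_cancel, map_one]
  have hXiX : Xi * X = 1 := by rw [hX, hXi, ← map_mul, inv_mul_cancel, map_one]
  have hXp : X ^ p = 1 := by
    rw [hX, ← map_pow, ← hx, pow_orderOf_eq_one, map_one]
  have hδ' : (X - 1) ^ (p - 1) = 0 := by
    obtain ⟨m, hm⟩ := Nat.exists_eq_add_of_le hl
    rw [hm, pow_add, hδ, zero_mul]
  have hrmem : r ∈ normSpan X Xi p := relTr_sub_mem ρA hx hxM hTI (fun t ht => hπcomm t ht)
  have hI : ∀ c ∈ normSpan X Xi p, InI (X - 1) c ∧ ∀ v, X v = v → c v = 0 := by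
    intro c hc
    induction hc using Submodule.span_induction with
    | mem c hc =>
      obtain ⟨e, rfl⟩ := hc
      refine ⟨⟨?_, fun v => normX_mem_range hXXi hXiX hδ' e v⟩, fun v hv => normX_apply_fixed hXiX hδ' e hv⟩
      have h1 := normX_comm (p := p) hXXi hXiX hXp e
      rw [mul_sub, sub_mul, h1, mul_one, one_mul]
    | zero =>
      refine ⟨⟨by simp, fun v => ?_⟩, fun v _ => rfl⟩
      simp
    | add c c' _ _ ih ih' =>
      refine ⟨ih.1.add ih'.1, fun v hv => ?_⟩
      rw [LinearMap.add_apply, ih.2 v hv, ih'.2 v hv, add_zero]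
    | smul a c _ ih =>
      refine ⟨⟨?_, fun v => ?_⟩, fun v hv => ?_⟩
      · rw [smul_mul_assoc, mul_smul_comm, ih.1.1]
      · rw [LinearMap.smul_apply]
        exact Submodule.smul_mem _ _ (ih.1.2 v)
      · rw [LinearMap.smul_apply, ih.2 v hv, smul_zero]
  have hπδ : π * (X - 1) = (X - 1) * π := by
    rw [mul_sub, sub_mul, hπcomm x hxM, mul_one, one_mul]
  have hfeq : π + r = f := by rw [hr]; abel
  have hlift := lift_idem (p := p) (hδ := hδ') (hl := Nat.sub_le p 1) hππ hπδ (hI r hrmem).1
  simp only [hfeq] at hlift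
  obtain ⟨hιι, hιδ, u, huδ, huinj, huπ⟩ := hlift
  set ι := f ^ p with hι
  have hfG : ∀ g : G, f * ρA g = ρA g * f := fun g => relTr_comm ρA (fun t ht => hπcomm t ht) g
  have hιG : ∀ g : G, ι * ρA g = ρA g * ι := fun g =>
    (Commute.pow_left (show Commute f (ρA g) from hfG g) p).eq
  have hfself : ∀ v w, trB k D (f v) w = trB k D v (f w) := by
    intro v w
    letI : Fintype (G ⧸ M) := Fintype.ofFinite _
    have hcj : ∀ (g : G) (v w : End k D), trB k D (cj ρA g π v) w = trB k D v (cj ρA g π w) := by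
      intro g v w
      simp only [cj, Module.End.mul_apply]
      rw [hρA, trB_ad_left, ← hρA, hπself, hρA, trB_ad_left, inv_inv]
    unfold relTr at hf
    rw [hf]
    simp only [LinearMap.sum_apply, map_sum]
    refine Finset.sum_congr rfl fun q _ => ?_
    exact hcj _ _ _
  have hιself : ∀ v w, trB k D (ι v) w = trB k D v (ι w) := by
    have : ∀ j : ℕ, ∀ v w, trB k D ((f ^ j) v) w = trB k D v ((f ^ j) w) := by
      intro j
      induction j with
      | zero => simp
      | succ j ih =>
        intro v w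
        rw [pow_succ, Module.End.mul_apply, ih, hfself, ← Module.End.mul_apply, ← pow_succ', pow_succ]
    exact this p
  have hfN : f N = N := by
    have h1 : r N = 0 := (hI r hrmem).2 N hC.hN
    have h2 : f N = π N + r N := by rw [← hfeq]; rfl
    rw [h2, h1, add_zero, hπ_left N hC.N_mem]
  have hιN : ι N = N := by
    have : ∀ j : ℕ, (f ^ j) N = N := by
      intro j
      induction j with
      | zero => simp
      | succ j ih => rw [pow_succ, Module.End.mul_apply, hfN, ih]
    exact this p
  have husurj : Function.Surjective u := LinearMap.injective_iff_surjective.1 huinj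
  have hrange : LinearMap.range ι = W₀.map u := by
    apply le_antisymm
    · rintro _ ⟨v, rfl⟩
      obtain ⟨v', rfl⟩ := husurj v
      have := LinearMap.congr_fun huπ v'
      simp only [Module.End.mul_apply] at this
      rw [← this]
      exact ⟨π v', hπ_mem v', rfl⟩
    · rintro _ ⟨w, hw, rfl⟩
      refine ⟨u w, ?_⟩
      have := LinearMap.congr_fun huπ w
      simp only [Module.End.mul_apply] at this
      rw [← this, hπ_left w hw]
  refine ⟨LinearMap.range ι, ?_, ?_, ?_, ?_, ?_⟩
  · rw [hrange]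
    have := LinearEquiv.finrank_eq (Submodule.equivMapOfInjective u huinj W₀)
    rw [← this]
    exact hC.finrank_W0 h2
  · rintro g _ ⟨v, rfl⟩
    refine ⟨ρA g v, ?_⟩
    have := LinearMap.congr_fun (hιG g) v
    simpa using this
  · exact ⟨N, hιN⟩
  · rintro _ ⟨a, rfl⟩ ha
    apply trB_nondeg
    intro c
    have hιι' : ι (ι a) = ι a := by rw [← Module.End.mul_apply, hιι]
    rw [← hιι', hιself]
    exact ha _ ⟨c, rfl⟩
  · refine ⟨u E, ?_, ?_⟩
    · rw [hrange]
      exact ⟨E, hC.E_mem, rfl⟩
    · intro h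
      have h1 : (X - 1) (u E) = 0 := by
        simp only [LinearMap.sub_apply, Module.End.one_apply]
        exact sub_eq_zero.2 h
      have h3 := LinearMap.congr_fun huδ E
      simp only [Module.End.mul_apply] at h3
      rw [h1] at h3
      have h4 : (X - 1) E = b := by
        simp only [LinearMap.sub_apply, Module.End.one_apply]
        rw [hX, hρA, hC.hE]
        abel
      rw [h4] at h3
      have h5 : u b = u 0 := by rw [h3, map_zero]
      exact hC.b_ne_zero h2 (huinj h5)

end Main

end Cfsg.Agent.Lib.BrauerTuan
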