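import Mathlib

/-!
# The relations of `sl₂` and the truncated exponential
-/

set_option autoImplicit false
set_option linter.unusedSectionVars false

namespace Cfsg.Agent.Lib.BrauerTuan

variable {k : Type*} [Field k] {p : ℕ} [hp : Fact p.Prime] [CharP k p]
variable {A : Type*} [Ring A] [Algebra k A]

/-- `N^i H = H N^i + 2 i N^i`. -/
lemma pow_mul_H {N H : A} (hNH : N * H - H * N = (2 : k) • N) (i : ℕ) :
    N ^ i * H = H * N ^ i + ((2 * i : k)) • N ^ i := by
  induction i with
  | zero => simp
  | succ i ih =>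
    have h1 : N * H = H * N + (2 : k) • N := by rw [← hNH]; abel
    have e1 : N ^ (i + 1) * H = N * (N ^ i * H) := by rw [pow_succ', mul_assoc]
    have e2 : N * (H * N ^ i) = H * N ^ (i + 1) + (2 : k) • N ^ (i + 1) := by
      rw [← mul_assoc, h1, add_mul, mul_assoc, ← pow_succ', smul_mul_assoc, ← pow_succ']
    rw [e1, ih, mul_add, e2, mul_smul_comm, ← pow_succ']
    push_cast
    module

/-- `N^{i+1} E = E N^{i+1} + (i+1) N^i H - (i+1) i N^i`. -/
lemma pow_succ_mul_E {N H E : A} (hNH : N * H - H * N = (2 : k) • N) (hNE : N * E - E * N = H) (i : ℕ) :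
    N ^ (i + 1) * E = E * N ^ (i + 1) + ((i + 1 : k)) • (N ^ i * H) - (((i + 1) * i : k)) • N ^ i := by
  induction i with
  | zero =>
    simp only [zero_add, pow_one, pow_zero, one_mul, mul_zero, zero_smul, sub_zero, one_smul,
      Nat.cast_zero]
    rw [← hNE]; abel
  | succ i ih =>
    have h1 : N * E = E * N + H := by rw [← hNE]; abel
    have h2 := pow_mul_H hNH (i + 1)
    have e1 : N ^ (i + 1 + 1) * E = N * (N ^ (i + 1) * E) := by rw [pow_succ' N (i + 1), mul_assoc]
    have e2 : N * (E * N ^ (i + 1)) = E * N ^ (i + 1 + 1) + H * N ^ (i + 1) := by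
      rw [← mul_assoc, h1, add_mul, mul_assoc, ← pow_succ']
    have e3 : N * (N ^ i * H) = N ^ (i + 1) * H := by rw [← mul_assoc, ← pow_succ']
    have e4 : N * N ^ i = N ^ (i + 1) := (pow_succ' N i).symm
    have e5 : H * N ^ (i + 1) = N ^ (i + 1) * H - ((2 * (i + 1 : ℕ) : k)) • N ^ (i + 1) := by
      rw [h2]; abel
    rw [e1, ih, mul_sub, mul_add, mul_smul_comm, mul_smul_comm, e2, e3, e4, e5]
    push_cast
    module

variable (k) in
/-- The truncated exponential. -/
noncomputable def texp (N : A) (r : ℕ) : A :=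
  ∑ i ∈ Finset.range r, (((Nat.factorial i : ℕ) : k)⁻¹) • N ^ i

lemma texp_zero (N : A) : texp k N 0 = 0 := by simp [texp]

lemma texp_succ (N : A) (r : ℕ) :
    texp k N (r + 1) = texp k N r + (((Nat.factorial r : ℕ) : k)⁻¹) • N ^ r := by
  simp [texp, Finset.sum_range_succ]

lemma texp_eq_of_pow_eq_zero {N : A} {r : ℕ} (hN : N ^ r = 0) (m : ℕ) :
    texp k N (r + m) = texp k N r := by
  induction m with
  | zero => simp
  | succ m ih =>
    rw [← add_assoc, texp_succ, ih, pow_add, hN, zero_mul, smul_zero, add_zero]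

lemma factorial_ne_zero' {i : ℕ} (hi : i < p) : ((Nat.factorial i : ℕ) : k) ≠ 0 := by
  intro h
  have h1 := (CharP.cast_eq_zero_iff k p _).1 h
  have h2 := (hp.out.dvd_factorial).1 h1
  omega

/-- Commutation of the truncated exponential with `H`. -/
lemma texp_mul_H {N H : A} (hNH : N * H - H * N = (2 : k) • N) {r : ℕ} (hr : r < p) :
    texp k N (r + 1) * H = H * texp k N (r + 1) + (2 : k) • (N * texp k N r) := by
  induction r with
  | zero =>
    simp [texp]
  | succ r ih =>
    have hr' : r < p := by omega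
    rw [texp_succ, add_mul, ih hr', mul_add]
    have h1 := pow_mul_H hNH (r + 1)
    have hne : ((Nat.factorial r : ℕ) : k) ≠ 0 := factorial_ne_zero' hr'
    have hne1 : ((Nat.factorial (r + 1) : ℕ) : k) ≠ 0 := factorial_ne_zero' hr
    have hcast : (((Nat.factorial (r + 1) : ℕ) : k)⁻¹) * ((r + 1 : ℕ) : k) = ((Nat.factorial r : ℕ) : k)⁻¹ := by
      rw [Nat.factorial_succ] at hne1 ⊢
      push_cast at hne1 ⊢
      have hr1 : (r : k) + 1 ≠ 0 := left_ne_zero_of_mul hne1
      field_simp
    rw [smul_mul_assoc, h1, smul_add, mul_smul_comm]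
    have h2 : N * texp k N (r + 1) = N * texp k N r + (((Nat.factorial r : ℕ) : k)⁻¹) • N ^ (r + 1) := by
      rw [texp_succ, mul_add, mul_smul_comm, ← pow_succ']
    rw [h2, smul_smul]
    have h3 : (((Nat.factorial (r + 1) : ℕ) : k)⁻¹) * (2 * ((r + 1 : ℕ) : k)) = 2 * ((Nat.factorial r : ℕ) : k)⁻¹ := by
      rw [mul_left_comm, hcast]
    rw [h3]
    module

/-- Commutation of the truncated exponential with `E`. -/
lemma texp_mul_E {N H E : A} (hNH : N * H - H * N = (2 : k) • N) (hNE : N * E - E * N = H) {r : ℕ}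
    (hr : r + 1 < p) :
    texp k N (r + 2) * E = E * texp k N (r + 2) + texp k N (r + 1) * H - N * texp k N r := by
  induction r with
  | zero =>
    have h1 : N * E = E * N + H := by rw [← hNE]; abel
    simp [texp, Finset.sum_range_succ, add_mul, mul_add, h1]
    abel
  | succ r ih =>
    have hr' : r + 1 < p := by omega
    have h2 := pow_succ_mul_E hNH hNE (r + 1)
    have hne : ((Nat.factorial r : ℕ) : k) ≠ 0 := factorial_ne_zero' (by omega)
    have hne1 : ((Nat.factorial (r + 1) : ℕ) : k) ≠ 0 := factorial_ne_zero' hr'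
    have hne2 : ((Nat.factorial (r + 2) : ℕ) : k) ≠ 0 := factorial_ne_zero' hr
    have hr1ne : ((r : k) + 1) ≠ 0 := by
      have : (((r + 1 : ℕ)) : k) ≠ 0 := by
        intro h
        have := (CharP.cast_eq_zero_iff k p _).1 h
        exact absurd (Nat.le_of_dvd (by omega) this) (by omega)
      simpa using this
    have hr2ne : ((r : k) + 1 + 1) ≠ 0 := by
      have : (((r + 2 : ℕ)) : k) ≠ 0 := by
        intro h
        have := (CharP.cast_eq_zero_iff k p _).1 h
        exact absurd (Nat.le_of_dvd (by omega) this) (by omega)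
      push_cast at this
      convert this using 1
      ring
    have c1 : (((Nat.factorial (r + 2) : ℕ) : k)⁻¹) * (((r + 1 : ℕ) : k) + 1) = ((Nat.factorial (r + 1) : ℕ) : k)⁻¹ := by
      rw [show r + 2 = (r + 1) + 1 from rfl, Nat.factorial_succ (r + 1)]
      rw [Nat.factorial_succ r] at hne1 ⊢
      push_cast at hne1 ⊢
      field_simp
    have c2 : (((Nat.factorial (r + 2) : ℕ) : k)⁻¹) * ((((r + 1 : ℕ) : k) + 1) * ((r + 1 : ℕ) : k)) = ((Nat.factorial r : ℕ) : k)⁻¹ := by
      rw [show r + 2 = (r + 1) + 1 from rfl, Nat.factorial_succ (r + 1), Nat.factorial_succ r]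
      push_cast
      field_simp
    rw [show r + 1 + 2 = (r + 2) + 1 from rfl, texp_succ, add_mul, ih hr', smul_mul_assoc, h2]
    rw [smul_sub, smul_add, smul_smul, smul_smul, c1, c2]
    have hE : E * (texp k N (r + 2) + (((Nat.factorial (r + 2) : ℕ) : k)⁻¹) • N ^ (r + 2)) =
        E * texp k N (r + 2) + (((Nat.factorial (r + 2) : ℕ) : k)⁻¹) • (E * N ^ (r + 1 + 1)) := by
      rw [mul_add, mul_smul_comm]
    have hH : texp k N (r + 1 + 1) * H = texp k N (r + 1) * H +
        (((Nat.factorial (r + 1) : ℕ) : k)⁻¹) • (N ^ (r + 1) * H) := by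
      rw [texp_succ, add_mul, smul_mul_assoc]
    have hN' : N * texp k N (r + 1) = N * texp k N r +
        (((Nat.factorial r : ℕ) : k)⁻¹) • N ^ (r + 1) := by
      rw [texp_succ, mul_add, mul_smul_comm, ← pow_succ']
    rw [hE, hH, hN']
    abel

/-- The conjugation formulas for `X = exp N`. -/
theorem exp_conj {N H E X : A} (hNH : N * H - H * N = (2 : k) • N) (hNE : N * E - E * N = H)
    (hX : texp k N p = X) (hN : N ^ (p - 2) = 0) (hp3 : 3 ≤ p) :
    X * N = N * X ∧ X * H = (H + (2 : k) • N) * X ∧ X * E = (E + H + N) * X := by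
  have hN1 : N ^ (p - 1) = 0 := by
    have : p - 1 = (p - 2) + 1 := by omega
    rw [this, pow_succ, hN, zero_mul]
  have e2 : texp k N (p - 1) = X := by
    rw [← hX]
    have := texp_eq_of_pow_eq_zero (k := k) hN1 1
    rw [show p - 1 + 1 = p by omega] at this
    exact this.symm
  have e3 : texp k N (p - 2) = X := by
    rw [← e2]
    have := texp_eq_of_pow_eq_zero (k := k) hN 1
    rw [show p - 2 + 1 = p - 1 by omega] at this
    exact this.symm
  have hcomm : X * N = N * X := by
    rw [← hX]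
    unfold texp
    rw [Finset.sum_mul, Finset.mul_sum]
    refine Finset.sum_congr rfl fun i _ => ?_
    rw [smul_mul_assoc, mul_smul_comm, ← pow_succ, pow_succ']
  have h1 := texp_mul_H (k := k) (p := p) hNH (r := p - 1) (by have := hp.out.pos; omega)
  rw [show p - 1 + 1 = p by omega, hX, e2] at h1
  have h2 := texp_mul_E (k := k) (p := p) hNH hNE (r := p - 2) (by omega)
  rw [show p - 2 + 2 = p by omega, show p - 2 + 1 = p - 1 by omega, hX, e2, e3] at h2
  refine ⟨hcomm, ?_, ?_⟩
  · rw [h1, add_mul, smul_mul_assoc]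
  · rw [h2, h1, add_mul, add_mul]
    module

end Cfsg.Agent.Lib.BrauerTuan
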