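import Mathlib
import Cfsg.Agent.Lib.BrauerTuan.LogExp
import Cfsg.Agent.Lib.BrauerTuan.Sl2Rel
import Cfsg.Agent.Lib.BrauerTuan.Block
import Cfsg.Agent.Lib.BrauerTuan.Quad

/-!
# The chain `E, b, N` for a faithful module with local endomorphism ring
-/

set_option autoImplicit false
set_option linter.unusedSectionVars false
set_option linter.style.haveILetI false

namespace Cfsg.Agent.Lib.BrauerTuan

open Module Cfsg.Agent.Lib.DefectOne Subgroup

section Group

variable {G : Type*} [Group G] [Finite G] {p : ℕ} [hp : Fact p.Prime] {x : G}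

/-- Elements of order dividing `p` in `N(⟨x⟩)` lie in `⟨x⟩`. -/
lemma mem_zpowers_of_mem_normalizer (hx : orderOf x = p) (hsq : ¬ p ^ 2 ∣ Nat.card G) {z : G}
    (hz : z ∈ normalizer (zpowers x : Set G)) (hzp : z ^ p = 1) : z ∈ zpowers x := by
  have hP : IsPGroup p (zpowers x) := by
    rw [IsPGroup.iff_card]
    exact ⟨1, by rw [Nat.card_zpowers, hx, pow_one]⟩
  have hQ : IsPGroup p (zpowers z) := by
    rw [IsPGroup.iff_card]
    have h1 : orderOf z ∣ p ^ 1 := by rw [pow_one]; exact orderOf_dvd_of_pow_eq_one hzp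
    obtain ⟨a, -, ha⟩ := (Nat.dvd_prime_pow hp.out).1 h1
    exact ⟨a, by rw [Nat.card_zpowers, ha]⟩
  have hle : zpowers z ≤ normalizer (zpowers x : Set G) := (zpowers_le).2 hz
  have hsup := hQ.to_sup_of_normal_right' hP hle
  obtain ⟨a, ha⟩ := IsPGroup.iff_card.1 hsup
  have hdvd : Nat.card ↥(zpowers z ⊔ zpowers x) ∣ Nat.card G := Subgroup.card_subgroup_dvd_card _
  have ha1 : a ≤ 1 := by
    by_contra h
    apply hsq
    have : p ^ 2 ∣ p ^ a := pow_dvd_pow p (by omega)
    rw [ha] at hdvd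
    exact this.trans hdvd
  have hle2 : zpowers x ≤ zpowers z ⊔ zpowers x := le_sup_right
  have hcard : Nat.card (zpowers x) = p := by rw [Nat.card_zpowers, hx]
  have heq : zpowers x = zpowers z ⊔ zpowers x := by
    refine Subgroup.eq_of_le_of_card_ge hle2 ?_
    rw [ha, hcard]
    calc p ^ a ≤ p ^ 1 := Nat.pow_le_pow_right hp.out.pos ha1
      _ = p := pow_one p
  have hzm : z ∈ zpowers z ⊔ zpowers x := (le_sup_left : zpowers z ≤ _) (mem_zpowers z)
  rw [← heq] at hzm
  exact hzm

/-- The normaliser contains all `g` with `g⁻¹ x g` in the normaliser. -/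
lemma mem_normalizer_of_conj (hx : orderOf x = p) (hsq : ¬ p ^ 2 ∣ Nat.card G) {g : G}
    (hg : g⁻¹ * x * g ∈ normalizer (zpowers x : Set G)) : g ∈ normalizer (zpowers x : Set G) := by
  set z := g⁻¹ * x * g with hz
  have hzg : g * z * g⁻¹ = x := by rw [hz]; group
  have hxp : x ^ p = 1 := by rw [← hx, pow_orderOf_eq_one]
  have hzp : z ^ p = 1 := by
    have h1 := conj_pow (a := g⁻¹) (b := x) (i := p)
    rw [inv_inv, hxp] at h1
    rw [hz, h1]
    simp
  have hzo : orderOf z = p := by
    have : orderOf z = orderOf x := by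
      rw [hz]
      have := MulEquiv.orderOf_eq (MulAut.conj g⁻¹) x
      simpa [MulAut.conj_apply] using this
    rw [this, hx]
  have hzm := mem_zpowers_of_mem_normalizer hx hsq hg hzp
  have heq : zpowers z = zpowers x := by
    refine Subgroup.eq_of_le_of_card_ge ((zpowers_le).2 hzm) ?_
    rw [Nat.card_zpowers, Nat.card_zpowers, hx, hzo]
  have hxz : x ∈ zpowers z := by rw [heq]; exact mem_zpowers x
  obtain ⟨j, hj⟩ := Subgroup.mem_zpowers_iff.1 hxz
  have hgx : g * x * g⁻¹ ∈ zpowers x := by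
    have h1 : g * x * g⁻¹ = (g * z * g⁻¹) ^ j := by
      rw [conj_zpow, hj]
    rw [h1, hzg]
    exact Subgroup.zpow_mem _ (mem_zpowers x) j
  rw [Subgroup.mem_normalizer_iff]
  intro h
  constructor
  · intro hh
    obtain ⟨a, rfl⟩ := Subgroup.mem_zpowers_iff.1 hh
    rw [← conj_zpow]
    exact Subgroup.zpow_mem _ hgx a
  · intro hh
    obtain ⟨a, ha⟩ := Subgroup.mem_zpowers_iff.1 hh
    have h1 : h = z ^ a := by
      rw [hz]
      have h2 := conj_zpow (a := g⁻¹) (b := x) (i := a)
      rw [inv_inv] at h2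
      rw [h2, ha]
      group
    rw [h1, ← heq]
    exact Subgroup.zpow_mem _ (mem_zpowers z) a

/-- A complement to `⟨x⟩` in its normaliser. -/
theorem exists_compl_normalizer (hx : orderOf x = p) (hsq : ¬ p ^ 2 ∣ Nat.card G) :
    ∃ K : Subgroup G, K ≤ normalizer (zpowers x : Set G) ∧ ¬ p ∣ Nat.card K ∧
      ∀ t ∈ normalizer (zpowers x : Set G), ∃ u ∈ zpowers x, ∃ w ∈ K, t = u * w := by
  classical
  set T : Subgroup G := normalizer (zpowers x : Set G) with hTdef
  have hxT : x ∈ T := by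
    rw [hTdef, Subgroup.mem_normalizer_iff]
    intro h
    constructor
    · intro hh
      exact Subgroup.mul_mem _ (Subgroup.mul_mem _ (mem_zpowers x) hh) (Subgroup.inv_mem _ (mem_zpowers x))
    · intro hh
      have := Subgroup.mul_mem _ (Subgroup.mul_mem _ (Subgroup.inv_mem _ (mem_zpowers x)) hh) (mem_zpowers x)
      simpa [mul_assoc] using this
  have hzT : zpowers x ≤ T := (zpowers_le).2 hxT
  let P' : Subgroup T := (zpowers x).subgroupOf T
  haveI hP'n : P'.Normal := by
    constructor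
    intro n hn g
    rw [Subgroup.mem_subgroupOf] at hn ⊢
    exact ((Subgroup.mem_normalizer_iff.1 g.2) _).1 hn
  have hcard : Nat.card P' = p := by
    have h1 : Nat.card P' = Nat.card (zpowers x) := Nat.card_congr (Subgroup.subgroupOfEquivOfLe hzT).toEquiv
    rw [h1, Nat.card_zpowers, hx]
  have hmul : Nat.card P' * P'.index = Nat.card T := P'.card_mul_index
  have hTG : Nat.card T ∣ Nat.card G := Subgroup.card_subgroup_dvd_card T
  have hcop : (Nat.card P').Coprime P'.index := by
    rw [hcard, Nat.Prime.coprime_iff_not_dvd hp.out]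
    intro hd
    apply hsq
    rw [hcard] at hmul
    refine Dvd.dvd.trans ?_ hTG
    rw [← hmul, pow_two]
    exact Nat.mul_dvd_mul_left p hd
  obtain ⟨K', hK'⟩ := Subgroup.exists_right_complement'_of_coprime hcop
  have hcardK : Nat.card P' * Nat.card K' = Nat.card T := hK'.card_mul_card
  refine ⟨K'.map T.subtype, ?_, ?_, ?_⟩
  · rintro _ ⟨w, -, rfl⟩
    exact w.2
  · have h1 : Nat.card (K'.map T.subtype) = Nat.card K' :=
      Nat.card_congr (Subgroup.equivMapOfInjective K' T.subtype T.subtype_injective).symm.toEquiv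
    rw [h1]
    intro hd
    apply hsq
    rw [hcard] at hcardK
    refine Dvd.dvd.trans ?_ hTG
    rw [← hcardK, pow_two]
    exact Nat.mul_dvd_mul_left p hd
  · intro t ht
    obtain ⟨⟨u, w⟩, hu⟩ := hK'.existsUnique (⟨t, ht⟩ : T) |>.exists
    refine ⟨(u : T), ?_, (w : T), ⟨w, w.2, rfl⟩, ?_⟩
    · exact u.2
    · exact (congrArg Subtype.val hu).symm

end Group

section Log

variable {k : Type*} [Field k] {p : ℕ} [hp : Fact p.Prime] [CharP k p]
variable {A : Type*} [Ring A] [Algebra k A]

/-- The logarithm of a power. -/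
theorem log_pow {X : A} (hX : X ^ p = 1) {m : ℕ} (hm : (m : k) ≠ 0) :
    logOf k p (X ^ m - 1) = (m : k) • logOf k p (X - 1) := by
  classical
  let φ : ZMod p →+* k := ZMod.castHom (dvd_refl p) k
  have hval : ∀ a : ZMod p, ((a.val : ℕ) : k) = φ a := fun a => by
    simp [φ]
  have hsum : ∀ f : ℕ → A, ∑ i ∈ Finset.range p, f i = ∑ a : ZMod p, f a.val := by
    intro f
    obtain ⟨n, hn⟩ : ∃ n, p = n + 1 := ⟨p - 1, (Nat.sub_add_cancel hp.out.pos).symm⟩
    subst hn
    rw [Finset.sum_range]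
    rfl
  have hmZ : (m : ZMod p) ≠ 0 := by
    intro h
    apply hm
    have := (ZMod.natCast_eq_zero_iff m p).1 h
    exact (CharP.cast_eq_zero_iff k p m).2 this
  have hφm : φ (m : ZMod p) = (m : k) := by simp [φ]
  rw [logOf_eq, logOf_eq]
  simp only [add_sub_cancel]
  rw [smul_neg, hsum, hsum, Finset.smul_sum]
  congr 1
  rw [← Equiv.sum_comp (Equiv.mulLeft₀ (m : ZMod p) hmZ)
    (fun a : ZMod p => (m : k) • (((a.val : ℕ) : k)⁻¹ • (X ^ a.val - 1)))]
  refine Finset.sum_congr rfl fun a _ => ?_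
  have hmulA : (Equiv.mulLeft₀ (m : ZMod p) hmZ) a = (m : ZMod p) * a := rfl
  rw [hmulA]
  have h1 : (X ^ m) ^ a.val = X ^ ((m : ZMod p) * a).val := by
    rw [← pow_mul, ZMod.val_mul, ZMod.val_natCast, Nat.mod_mul_mod] 
    conv_lhs => rw [← Nat.div_add_mod (m * a.val) p, pow_add, pow_mul, hX, one_pow, one_mul]
  rw [h1, smul_smul, hval, hval, map_mul, hφm]
  congr 1
  rw [mul_inv, ← mul_assoc, mul_inv_cancel₀ hm, one_mul]

end Log

section Main

variable {G : Type*} [Group G] [Finite G] {k : Type*} [Field k] {D : Type*} [AddCommGroup D] [Module k D]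
  [FiniteDimensional k D] {p : ℕ} [hp : Fact p.Prime] [CharP k p]

lemma conj_pow_aux {A : Type*} [Monoid A] {a b c : A} (h1 : a * b = 1) (h2 : b * a = 1) (i : ℕ) :
    a * c ^ i * b = (a * c * b) ^ i := by
  induction i with
  | zero => simp [h1]
  | succ i ih =>
    rw [pow_succ, pow_succ, ← ih]
    calc a * (c ^ i * c) * b = a * c ^ i * 1 * c * b := by simp only [mul_one, mul_assoc]
      _ = a * c ^ i * (b * a) * c * b := by rw [h2]
      _ = _ := by simp only [mul_assoc]

/-- An idempotent commuting with `N(⟨x⟩)` is `0` or `1`. -/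
lemma idem_trivial (ρ : G →* End k D)
    (hLoc : ∀ S : End k D, (∀ g, S * ρ g = ρ g * S) → IsNilpotent S ∨ IsUnit S)
    {x : G} (hx : orderOf x = p) (hsq : ¬ p ^ 2 ∣ Nat.card G) (hδ : (adHom ρ x - 1) ^ (p - 1) = 0)
    {F : End k D} (hFF : F * F = F)
    (hF : ∀ t ∈ normalizer (zpowers x : Set G), F * ρ t = ρ t * F) : F = 0 ∨ F = 1 := by
  have hxM : x ∈ normalizer (zpowers x : Set G) := by
    rw [Subgroup.mem_normalizer_iff]
    intro h
    constructor
    · intro hh
      exact Subgroup.mul_mem _ (Subgroup.mul_mem _ (mem_zpowers x) hh) (Subgroup.inv_mem _ (mem_zpowers x))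
    · intro hh
      have := Subgroup.mul_mem _ (Subgroup.mul_mem _ (Subgroup.inv_mem _ (mem_zpowers x)) hh) (mem_zpowers x)
      simpa [mul_assoc] using this
  have hrel := relTr_sub_mem ρ hx hxM (fun g hg => mem_normalizer_of_conj hx hsq hg) hF
  have hzero : normSpan (ρ x) (ρ x⁻¹) p = ⊥ := by
    rw [eq_bot_iff]
    refine Submodule.span_le.2 ?_
    rintro _ ⟨e, rfl⟩
    exact normX_eq_zero ρ x hδ e
  rw [hzero, Submodule.mem_bot, sub_eq_zero] at hrel
  have hcomm : ∀ g, F * ρ g = ρ g * F := by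
    intro g
    rw [← hrel]
    exact relTr_comm ρ hF g
  rcases hLoc F hcomm with hn | hu
  · left
    obtain ⟨m, hm⟩ := hn
    have h1 : ∀ j : ℕ, F ^ (j + 1) = F := by
      intro j
      induction j with
      | zero => simp
      | succ j ih => rw [pow_succ, ih, hFF]
    cases m with
    | zero =>
      have h2 : (1 : End k D) = 0 := by simpa using hm
      have : F = 1 * F := (one_mul F).symm
      rw [this, h2, zero_mul]
    | succ m => rw [← h1 m, hm]
  · right
    exact hu.mul_right_cancel (by rw [hFF, one_mul])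

/-- **The chain.** -/
theorem exists_chain (ρ : G →* End k D) (hinj : Function.Injective ρ)
    (hLoc : ∀ S : End k D, (∀ g, S * ρ g = ρ g * S) → IsNilpotent S ∨ IsUnit S)
    {x : G} (hx : orderOf x = p) (hsq : ¬ p ^ 2 ∣ Nat.card G)
    (hdim : 2 * finrank k D + 1 ≤ p) :
    ∃ E b N : End k D, Chain ρ x E b N ∧
      (∀ t ∈ normalizer (zpowers x : Set G), ∀ a ∈ W0 E b N, adHom ρ t a ∈ W0 E b N) ∧
      (∀ g, adHom ρ g N = N → g * x = x * g) ∧ (adHom ρ x - 1) ^ (p - 1) = 0 := by
  classical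
  set n := finrank k D with hn
  set X := ρ x with hX
  set Xi := ρ x⁻¹ with hXi
  set t := X - 1 with ht
  have hXXi : X * Xi = 1 := by rw [hX, hXi, ← map_mul, mul_inv_cancel, map_one]
  have hXiX : Xi * X = 1 := by rw [hX, hXi, ← map_mul, inv_mul_cancel, map_one]
  have hXp : X ^ p = 1 := by rw [hX, ← map_pow, ← hx, pow_orderOf_eq_one, map_one]
  have hx1 : x ≠ 1 := by
    intro h
    rw [h, orderOf_one] at hx
    exact hp.out.one_lt.ne hx
  have hX1 : X ≠ 1 := by
    intro h
    apply hx1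
    apply hinj
    rw [map_one]
    exact h
  have ht0 : t ≠ 0 := sub_ne_zero.2 hX1
  have htp : t ^ p = 0 := y_pow_p ρ hx
  have htn : t ^ n = 0 := by
    have h1 : IsNilpotent t := ⟨p, htp⟩
    have h2 := LinearMap.isNilpotent_iff_charpoly t |>.1 h1
    have h3 := LinearMap.aeval_self_charpoly t
    rw [h2] at h3
    simpa using h3
  have hδ : (adHom ρ x - 1) ^ (p - 1) = 0 := adHom_sub_one_pow ρ x htn (by omega)
  set M : Subgroup G := normalizer (zpowers x : Set G) with hM
  obtain ⟨K, hKM, hKp, hMK⟩ := exists_compl_normalizer hx hsq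
  have hK : (Nat.card K : k) ≠ 0 := by
    intro h
    exact hKp ((CharP.cast_eq_zero_iff k p _).1 h)
  have hKn : ∀ w ∈ K, ∀ u ∈ zpowers x, w⁻¹ * u * w ∈ zpowers x := by
    intro w hw u hu
    have h1 : w⁻¹ ∈ M := M.inv_mem (hKM hw)
    have := (Subgroup.mem_normalizer_iff.1 h1 u).1 hu
    simpa using this
  have hKx : ∀ w ∈ K, w⁻¹ * x * w ∈ zpowers x := fun w hw => hKn w hw x (mem_zpowers x)
  -- the nilpotency index
  have hexs : ∃ s, t ^ s = 0 := ⟨n, htn⟩
  set s := Nat.find hexs with hs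
  have hts : t ^ s = 0 := Nat.find_spec hexs
  have hsn : s ≤ n := Nat.find_min' hexs htn
  have hs0 : s ≠ 0 := by
    intro h
    rw [h, pow_zero] at hts
    apply ht0
    rw [← mul_one t, hts, mul_zero]
  have hs1 : s ≠ 1 := by
    intro h
    rw [h, pow_one] at hts
    exact ht0 hts
  obtain ⟨r, hr⟩ : ∃ r, s = r + 1 := ⟨s - 1, by omega⟩
  have hr1 : 1 ≤ r := by omega
  have htr : t ^ r ≠ 0 := Nat.find_min hexs (by omega)
  have htr1 : t ^ (r + 1) = 0 := by rw [← hr]; exact hts
  -- the complement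
  have hkerK : KStable ρ K (LinearMap.ker (t ^ r)) := by
    intro w hw v hv
    exact ker_pow_stable ρ hx (hKx w hw) r hv
  obtain ⟨U, hUK, -, hUinf, hUsup⟩ := exists_stable_compl ρ hK (U := ⊤) (U' := LinearMap.ker (t ^ r))
    (fun _ _ _ _ => trivial) hkerK le_top
  have hinjU : ∀ u ∈ U, (t ^ r) u = 0 → u = 0 := by
    intro u hu h0
    have : u ∈ LinearMap.ker (t ^ r) ⊓ U := ⟨h0, hu⟩
    rw [hUinf] at this
    simpa using this
  have hUne : ∃ u ∈ U, u ≠ 0 := by
    by_contra hno
    push Not at hno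
    apply htr
    have h1 : U = ⊥ := (Submodule.eq_bot_iff _).2 hno
    rw [h1, sup_bot_eq] at hUsup
    ext v
    have : v ∈ LinearMap.ker (t ^ r) := by rw [hUsup]; trivial
    simpa using this
  obtain ⟨F, hFF, -, -, hFK, hFy, hFmem, hFid⟩ := exists_block_idem ρ hx hK hKn (E := 1) (s := r)
    (by simp) (by simp) (by simp) (by rw [mul_one]; exact htr1) (U := U)
    (fun u _ => ⟨u, rfl⟩) hUK hinjU
  have hFM : ∀ t' ∈ M, F * ρ t' = ρ t' * F := by
    intro t' ht'
    obtain ⟨u, hu, w, hw, rfl⟩ := hMK t' ht'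
    rw [map_mul, ← mul_assoc, comm_zpowers ρ hx hFy hu, mul_assoc, hFK w hw, ← mul_assoc]
  have hF1 : F = 1 := by
    rcases idem_trivial ρ hLoc hx hsq hδ hFF hFM with h0 | h1
    · exfalso
      obtain ⟨u, hu, hu0⟩ := hUne
      apply hu0
      have hmem : u ∈ polySpan t U (r + 1) := by
        refine ⟨fun j => if j = 0 then u else 0, fun j => ?_, ?_⟩
        · by_cases hj : j = 0
          · simp [hj, hu]
          · simp [hj]
        · rw [Finset.sum_eq_single 0]
          · simp
          · intro b _ hb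
            simp [hb]
          · intro h
            exact absurd (Finset.mem_range.2 (Nat.succ_pos r)) h
      have := hFid u hmem
      rw [h0] at this
      exact this.symm
    · exact h1
  have hGt : Graded t U r := ⟨htr1, hinjU, fun v => by
    have := hFmem v
    rw [hF1] at this
    exact this⟩
  -- the logarithm
  have hp3 : 5 ≤ p := by
    have h1 : 2 ≤ n := by omega
    omega
  set N := logOf k p t with hN
  have htp1 : t ^ (p - 1) = 0 := by
    obtain ⟨m, hm⟩ : ∃ m, p - 1 = n + m := ⟨p - 1 - n, by omega⟩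
    rw [hm, pow_add, htn, zero_mul]
  have hexp : texp k N p = X := by
    have := exp_logOf (k := k) (p := p) htp1
    unfold texp
    rw [this, ht]
    abel
  obtain ⟨hpoly, hN1⟩ := exists_logOf_eq_mul (k := k) (p := p) t
  set h₁ := Polynomial.aeval t hpoly with hh₁
  have hth₁ : Commute t h₁ := by
    have h1 : Polynomial.aeval t (Polynomial.X * hpoly) = Polynomial.aeval t (hpoly * Polynomial.X) := by
      rw [mul_comm]
    simpa [Commute, SemiconjBy] using h1
  obtain ⟨q, hq⟩ : ∃ q, p = q + 1 := ⟨p - 1, by omega⟩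
  set h₂ : End k D := ∑ i ∈ Finset.range q, (((Nat.factorial (i + 1) : ℕ) : k)⁻¹) • N ^ i with hh₂
  have ht2 : t = N * h₂ := by
    have h1 := hexp
    unfold texp at h1
    rw [hq, Finset.sum_range_succ'] at h1
    simp only [pow_zero, Nat.factorial_zero, Nat.cast_one, inv_one, one_smul] at h1
    have h3 : ∑ i ∈ Finset.range q, (((Nat.factorial (i + 1) : ℕ) : k)⁻¹) • N ^ (i + 1) = N * h₂ := by
      rw [hh₂, Finset.mul_sum]
      refine Finset.sum_congr rfl fun i _ => ?_
      rw [mul_smul_comm, pow_succ']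
    rw [h3] at h1
    rw [ht, ← h1]
    abel
  have hNh₂ : Commute N h₂ := by
    refine Commute.sum_right _ _ _ fun i _ => ?_
    exact ((Commute.refl N).pow_right i).smul_right _
  have hpowN : ∀ m : ℕ, N ^ m = t ^ m * h₁ ^ m := fun m => by
    rw [show N = t * h₁ from hN1, hth₁.mul_pow]
  have hpowt : ∀ m : ℕ, t ^ m = h₂ ^ m * N ^ m := fun m => by
    conv_lhs => rw [ht2]
    rw [hNh₂.mul_pow, ((hNh₂.pow_pow m m).eq)]
  have hNpow : N ^ (r + 1) = 0 := by
    rw [hpowN, htr1, zero_mul]
  have hinjN : ∀ u ∈ U, (N ^ r) u = 0 → u = 0 := by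
    intro u hu h0
    apply hinjU u hu
    rw [hpowt, Module.End.mul_apply, h0, map_zero]
  have hGN : Graded N U r := Graded.of_finrank hNpow hinjN hGt.finrank_eq
  obtain ⟨E, H, hT⟩ := exists_triple hGN
  have hNH := hT.NH hGN
  have hNE := hT.NE hGN
  have hNp2 : N ^ (p - 2) = 0 := by
    obtain ⟨m, hm⟩ : ∃ m, p - 2 = (r + 1) + m := ⟨p - 2 - (r + 1), by omega⟩
    rw [hm, pow_add, hNpow, zero_mul]
  obtain ⟨hcN, hcH, hcE⟩ := exp_conj (k := k) (p := p) hNH hNE hexp hNp2 (by omega)
  have hadx : ∀ a c : End k D, X * a = c * X → adHom ρ x a = c := by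
    intro a c h
    rw [adHom_apply, ← hX, ← hXi, h, mul_assoc, hXXi, mul_one]
  have hbx : adHom ρ x (H + N) = (H + N) + (2 : k) • N := by
    apply hadx
    rw [mul_add, hcH, hcN, ← add_mul]
    congr 1
    abel
  have hEx : adHom ρ x E = E + (H + N) := by
    apply hadx
    rw [hcE, add_assoc]
  have hNx : adHom ρ x N = N := hadx _ _ hcN
  -- the trace
  have hdimU := hGt.finrank_eq
  have hf0 : 0 < finrank k U := by
    by_contra h
    have h0 : finrank k U = 0 := by omega
    rw [h0, mul_zero] at hdimU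
    omega
  have hfle : finrank k U ≤ n := by
    rw [← hn] at hdimU
    rw [hdimU]
    exact Nat.le_mul_of_pos_left _ (by omega)
  have hrle : r + 1 ≤ n := by omega
  have hτ : trB k D E N ≠ 0 := by
    rw [trB_apply]
    intro h0
    have h1 := hT.trace_EN hGN
    rw [h0, mul_zero] at h1
    have h2 : ((finrank k U : k) * (r : k) * ((r : k) + 1) * ((r : k) + 2)) = 0 := by
      exact (neg_eq_zero.1 h1.symm)
    have hne : ∀ i : ℕ, 0 < i → i < p → (i : k) ≠ 0 := fun i h0 hi => natCast_ne_zero_of_lt h0 hi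
    have h3 : ((finrank k U : k)) ≠ 0 := hne _ hf0 (by omega)
    have h4 : (r : k) ≠ 0 := hne _ (by omega) (by omega)
    have h5 : ((r : k) + 1) ≠ 0 := by
      have := hne (r + 1) (by omega) (by omega)
      simpa using this
    have h6 : ((r : k) + 2) ≠ 0 := by
      have := hne (r + 2) (by omega) (by omega)
      simpa using this
    exact (mul_ne_zero (mul_ne_zero (mul_ne_zero h3 h4) h5) h6) h2
  have hC : Chain ρ x E (H + N) N := ⟨hEx, hbx, hNx, hτ⟩
  refine ⟨E, H + N, N, hC, ?_, ?_, hδ⟩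
  · -- stability
    have hEmem := hC.E_mem
    have hbmem := hC.b_mem
    have hNmem := hC.N_mem
    have hSx : ∀ a ∈ W0 E (H + N) N, adHom ρ x a ∈ W0 E (H + N) N := by
      intro a ha
      obtain ⟨α, β, γ, rfl⟩ := mem_W0.1 ha
      rw [map_add, map_add, map_smul, map_smul, map_smul, hEx, hbx, hNx]
      refine Submodule.add_mem _ (Submodule.add_mem _ ?_ ?_) ?_
      · exact Submodule.smul_mem _ _ (Submodule.add_mem _ hEmem hbmem)
      · exact Submodule.smul_mem _ _ (Submodule.add_mem _ hbmem (Submodule.smul_mem _ _ hNmem))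
      · exact Submodule.smul_mem _ _ hNmem
    have hSpow : ∀ i : ℕ, ∀ a ∈ W0 E (H + N) N, adHom ρ (x ^ i) a ∈ W0 E (H + N) N := by
      intro i
      induction i with
      | zero =>
        intro a ha
        simpa using ha
      | succ i ih =>
        intro a ha
        rw [pow_succ, map_mul, Module.End.mul_apply]
        exact ih _ (hSx a ha)
    have hfin : IsOfFinOrder x := isOfFinOrder_iff_pow_eq_one.2 ⟨p, hp.out.pos, by
      rw [← hx, pow_orderOf_eq_one]⟩
    have hSu : ∀ u ∈ zpowers x, ∀ a ∈ W0 E (H + N) N, adHom ρ u a ∈ W0 E (H + N) N := by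
      intro u hu
      obtain ⟨i, rfl⟩ := (hfin.mem_powers_iff_mem_zpowers).2 hu
      exact hSpow i
    have hSw : ∀ w ∈ K, ∀ a ∈ W0 E (H + N) N, adHom ρ w a ∈ W0 E (H + N) N := by
      intro w hw
      -- the exponent
      have h1 : w * x * w⁻¹ ∈ zpowers x := (Subgroup.mem_normalizer_iff.1 (hKM hw) x).1 (mem_zpowers x)
      obtain ⟨m, hm⟩ := (hfin.mem_powers_iff_mem_zpowers).2 h1
      simp only at hm
      have hmk : (m : k) ≠ 0 := by
        intro h0
        have hd := (CharP.cast_eq_zero_iff k p m).1 h0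
        rw [← hx] at hd
        have h2 := orderOf_dvd_iff_pow_eq_one.1 hd
        rw [hm] at h2
        apply hx1
        have h3 : w * x * w⁻¹ = 1 := h2
        have h4 : x = w⁻¹ * (w * x * w⁻¹) * w := by group
        rw [h4, h3]
        group
      have hconjX : ρ w * X * ρ w⁻¹ = X ^ m := by
        rw [hX, ← map_mul, ← map_mul, ← map_pow, hm]
      have hwinv : ρ w * ρ w⁻¹ = 1 := by rw [← map_mul, mul_inv_cancel, map_one]
      have hwinv' : ρ w⁻¹ * ρ w = 1 := by rw [← map_mul, inv_mul_cancel, map_one]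
      have hconjpow : ∀ i : ℕ, ρ w * (X ^ i - 1) * ρ w⁻¹ = (X ^ m) ^ i - 1 := by
        intro i
        have h2 : ρ w * X ^ i * ρ w⁻¹ = (X ^ m) ^ i := by
          rw [← hconjX, conj_pow_aux hwinv hwinv']
        rw [mul_sub, sub_mul, h2, mul_one, hwinv]
      have hNw : adHom ρ w N = (m : k) • N := by
        have h2 : adHom ρ w N = logOf k p (X ^ m - 1) := by
          rw [hN, logOf_eq, logOf_eq, adHom_apply]
          simp only [ht, add_sub_cancel]
          rw [mul_neg, neg_mul, Finset.mul_sum, Finset.sum_mul]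
          congr 1
          refine Finset.sum_congr rfl fun i _ => ?_
          rw [mul_smul_comm, smul_mul_assoc, hconjpow]
        rw [h2, log_pow hXp hmk]
      have hwN : ρ w * N = (m : k) • (N * ρ w) := by
        have h2 : ρ w * N * ρ w⁻¹ = (m : k) • N := by rw [← adHom_apply, hNw]
        calc ρ w * N = ρ w * N * (ρ w⁻¹ * ρ w) := by rw [hwinv', mul_one]
          _ = (ρ w * N * ρ w⁻¹) * ρ w := by simp only [mul_assoc]
          _ = _ := by rw [h2, smul_mul_assoc]
      have hEw := hT.E_comm hGN hwN (fun u hu => hUK w hw u hu)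
      have hEad : adHom ρ w E = (m : k)⁻¹ • E := by
        rw [adHom_apply]
        have h2 : ρ w * E = (m : k)⁻¹ • (E * ρ w) := by
          rw [hEw, smul_smul, inv_mul_cancel₀ hmk, one_smul]
        rw [h2, smul_mul_assoc, mul_assoc, hwinv, mul_one]
      have hbad : adHom ρ w (H + N) = (m : k)⁻¹ • (adHom ρ (x ^ m) E - E) := by
        have h2 : H + N = adHom ρ x E - E := by rw [hEx]; abel
        rw [h2, map_sub, hEad, smul_sub]
        congr 1
        rw [← Module.End.mul_apply, ← map_mul]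
        have h3 : w * x = x ^ m * w := by
          rw [hm]
          group
        rw [h3, map_mul, Module.End.mul_apply, hEad, map_smul]
      intro a ha
      obtain ⟨α, β, γ, rfl⟩ := mem_W0.1 ha
      rw [map_add, map_add, map_smul, map_smul, map_smul, hEad, hbad, hNw]
      refine Submodule.add_mem _ (Submodule.add_mem _ ?_ ?_) ?_
      · exact Submodule.smul_mem _ _ (Submodule.smul_mem _ _ hEmem)
      · refine Submodule.smul_mem _ _ (Submodule.smul_mem _ _ (Submodule.sub_mem _ (hSpow m E hEmem) hEmem))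
      · exact Submodule.smul_mem _ _ (Submodule.smul_mem _ _ hNmem)
    intro t' ht' a ha
    obtain ⟨u, hu, w, hw, rfl⟩ := hMK t' ht'
    rw [map_mul, Module.End.mul_apply]
    exact hSu u hu _ (hSw w hw a ha)
  · -- commutation
    intro g hg
    have hginv : ρ g⁻¹ * ρ g = 1 := by rw [← map_mul, inv_mul_cancel, map_one]
    have h1 : ρ g * N = N * ρ g := by
      rw [adHom_apply] at hg
      calc ρ g * N = ρ g * N * (ρ g⁻¹ * ρ g) := by rw [hginv, mul_one]
        _ = (ρ g * N * ρ g⁻¹) * ρ g := by simp only [mul_assoc]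
        _ = _ := by rw [hg]
    have h2 : ρ g * X = X * ρ g := by
      rw [← hexp]
      unfold texp
      rw [Finset.mul_sum, Finset.sum_mul]
      refine Finset.sum_congr rfl fun i _ => ?_
      rw [mul_smul_comm, smul_mul_assoc, (Commute.pow_right (show Commute (ρ g) N from h1) i).eq]
    apply hinj
    rw [map_mul, map_mul]
    exact h2

end Main

end Cfsg.Agent.Lib.BrauerTuan
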