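import Cfsg.Agent.Lib.DefectOne.Lattice
import Cfsg.Agent.Lib.BrauerTuan.Struct
import Cfsg.Agent.Lib.BrauerTuan.Orth3
import Cfsg.Agent.Lib.BrauerTuan.GroupLemma

/-!
# From a faithful irreducible complex representation of small degree to a map to `PSL(2, k)`
-/

set_option autoImplicit false
set_option linter.unusedSectionVars false
set_option linter.style.haveILetI false

namespace Cfsg.Agent.Lib.BrauerTuan

open Module Matrix Subgroup Cfsg.Agent.Lib.DefectOne
open scoped MatrixGroups
open Cfsg.Agent.Lib.PSL2.Basic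

section Quad

variable {Γ k D : Type*} [Group Γ] [Finite Γ] [Field k] [AddCommGroup D] [Module k D]
  [FiniteDimensional k D] {p : ℕ} [hp : Fact p.Prime] [CharP k p]

/-- The map to `PSL(2, k)`. -/
theorem quad_to_psl (ρ : Γ →* End k D) (hinj : Function.Injective ρ)
    (hLoc : ∀ S : End k D, (∀ g, S * ρ g = ρ g * S) → IsNilpotent S ∨ IsUnit S)
    {x : Γ} (hx : orderOf x = p) (hsq : ¬ p ^ 2 ∣ Nat.card Γ)
    (hdim : 2 * finrank k D + 1 ≤ p) (h2 : (2 : k) ≠ 0) (hs : ∀ a : k, ∃ b, b * b = a)
    (hodd : p ≠ 2) :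
    ∃ ψ : Γ →* PSL(2, k), ψ x ≠ 1 ∧ ∀ g, ψ g = 1 → g * x = x * g := by
  classical
  obtain ⟨E, b, N, hC, hstab, hcomm, hδ⟩ := exists_chain ρ hinj hLoc hx hsq hdim
  obtain ⟨W, hW⟩ := exists_quad (M := normalizer (zpowers x : Set Γ)) hC h2 hx
    (Subgroup.le_normalizer (mem_zpowers x)) (fun g hg => mem_normalizer_of_conj hx hsq hg) hstab
    (le_refl (p - 1)) hδ
  let BW : LinearMap.BilinForm k W := (trB k D).restrict W
  have hBW : ∀ a c : W, BW a c = trB k D a.1 c.1 := fun _ _ => rfl
  obtain ⟨e, h, f, F⟩ := exists_frame3 h2 hs hW.dim BW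
    (fun a c => by rw [hBW, hBW, trB_comm])
    (fun a ha => Subtype.ext (hW.nondeg a.1 a.2 (fun c hc => ha ⟨c, hc⟩)))
  let σ : Γ →* End k W :=
    { toFun := fun g => (adHom ρ g).restrict (hW.stable g)
      map_one' := by
        ext a
        simp [LinearMap.restrict_apply]
      map_mul' := fun g g' => by
        ext a
        simp [LinearMap.restrict_apply, Module.End.mul_apply] }
  have hσ : ∀ g (a : W), (σ g a).1 = adHom ρ g a.1 := fun _ _ => rfl
  have hiso : ∀ g (u v : W), BW (σ g u) (σ g v) = BW u v := by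
    intro g u v
    rw [hBW, hBW, hσ, hσ]
    exact trB_ad ρ g u.1 v.1
  obtain ⟨ψ, hψ⟩ := F.exists_psl_hom h2 hs σ hiso
  obtain ⟨v, hvW, hv⟩ := hW.act
  have hxp : x ^ p = 1 := by rw [← hx, pow_orderOf_eq_one]
  have hσx1 : σ x ≠ 1 := by
    intro h1
    apply hv
    have := hσ x ⟨v, hvW⟩
    rw [h1] at this
    exact this.symm
  have hσxm : σ x ≠ -1 := by
    intro h1
    have h3 : σ x ^ p = 1 := by rw [← map_pow, hxp, map_one]
    have hoddp : Odd p := hp.out.odd_of_ne_two hodd
    have hpw : ∀ (i : ℕ) (a : W), (σ x ^ i) a = (-1 : k) ^ i • a := by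
      intro i a
      induction i with
      | zero => simp
      | succ i ih =>
        have hna : (-1 : End k W) a = -a := rfl
        rw [pow_succ', Module.End.mul_apply, ih, map_smul, pow_succ, mul_neg_one, h1, hna, smul_neg]
        exact (neg_smul _ _).symm
    apply hv
    have h4 : ∀ a : W, a = 0 := by
      intro a
      have h5 := hpw p a
      rw [h3, Module.End.one_apply, hoddp.neg_one_pow] at h5
      have h5' : a = -a := h5.trans (neg_one_smul k a)
      have h6 : (2 : k) • a = 0 := by
        rw [two_smul]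
        exact eq_neg_iff_add_eq_zero.1 h5'
      exact (smul_eq_zero.1 h6).resolve_left h2
    have h5 : v = 0 := congrArg Subtype.val (h4 ⟨v, hvW⟩)
    rw [h5, map_zero]
  refine ⟨ψ, fun h0 => ?_, fun g hg => ?_⟩
  · rcases (hψ x).1 h0 with h1 | h1
    · exact hσx1 h1
    · exact hσxm h1
  · have hpm := (hψ g).1 hg
    have hgi : σ g⁻¹ * σ g = 1 := by rw [← map_mul, inv_mul_cancel, map_one]
    have hσz : σ (g * x * g⁻¹) = σ x := by
      rw [map_mul, map_mul]
      rcases hpm with h1 | h1
      · rw [h1, mul_one] at hgi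
        rw [h1, hgi, one_mul, mul_one]
      · have hg1 : ∀ a, σ g a = -a := fun a => by rw [h1]; rfl
        have hgi1 : ∀ a, σ g⁻¹ a = -a := fun a => by
          have := LinearMap.congr_fun hgi a
          simp only [Module.End.mul_apply, Module.End.one_apply] at this
          rw [hg1, map_neg] at this
          exact neg_eq_iff_eq_neg.1 this
        refine LinearMap.ext fun a => ?_
        simp only [Module.End.mul_apply]
        rw [hgi1, map_neg, hg1, neg_neg]
    set z := g * x * g⁻¹ with hz
    set c := x⁻¹ * z with hc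
    have hσc : σ c = 1 := by
      rw [hc, map_mul, hσz, ← map_mul, inv_mul_cancel, map_one]
    have hcN : adHom ρ c N = N := by
      have := hσ c ⟨N, hW.N_mem⟩
      rw [hσc] at this
      exact this.symm
    have hcx := hcomm c hcN
    have hzc : z = x * c := by rw [hc]; group
    have hzx : z * x = x * z := by
      rw [hzc, mul_assoc, hcx]
    have hzN : z ∈ normalizer (zpowers x : Set Γ) := by
      rw [Subgroup.mem_normalizer_iff]
      intro n
      have hfix : ∀ m ∈ zpowers x, z * m * z⁻¹ = m := by
        intro m hm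
        obtain ⟨i, rfl⟩ := mem_zpowers_iff.1 hm
        have h3 : Commute z (x ^ i) := (show Commute z x from hzx).zpow_right i
        rw [h3.eq]
        group
      constructor
      · intro hn
        rw [hfix n hn]
        exact hn
      · intro hn
        have h3 := hfix _ hn
        have h4 : z * (z * n * z⁻¹) * z⁻¹ = z * n * z⁻¹ := h3
        have h5 : z * n * z⁻¹ = n := by
          have h6 : z * (z * n * z⁻¹) = (z * n * z⁻¹) * z := by
            calc z * (z * n * z⁻¹) = z * (z * n * z⁻¹) * z⁻¹ * z := by group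
              _ = _ := by rw [h4]
          have h7 : z * n = n * z := by
            have h8 := h6
            have h9 : z * (z * n * z⁻¹) = z * (z * n * z⁻¹) := rfl
            calc z * n = z⁻¹ * (z * (z * n * z⁻¹)) * z := by group
              _ = z⁻¹ * ((z * n * z⁻¹) * z) * z := by rw [h8]
              _ = n * z := by group
          rw [h7]
          group
        rw [← h5]
        exact hn
    have hzp : z ^ p = 1 := by
      rw [hz, conj_pow, hxp]
      group
    have hzmem := mem_zpowers_of_mem_normalizer hx hsq hzN hzp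
    set m := z * x⁻¹ with hm
    have hmem : m ∈ zpowers x := Subgroup.mul_mem _ hzmem (Subgroup.inv_mem _ (mem_zpowers x))
    have hσm : σ m = 1 := by
      rw [hm, map_mul, hσz, ← map_mul, mul_inv_cancel, map_one]
    have hm1 : m = 1 := by
      by_contra hne
      have hmp : m ^ p = 1 := by
        obtain ⟨i, hi⟩ := mem_zpowers_iff.1 hmem
        rw [← hi, ← zpow_natCast, ← _root_.zpow_mul, mul_comm, _root_.zpow_mul, zpow_natCast, hxp, _root_.one_zpow]
      have hmo : orderOf m = p := orderOf_eq_prime hmp hne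
      have hle : zpowers m ≤ zpowers x := (zpowers_le).2 hmem
      have heq : zpowers m = zpowers x := by
        refine Subgroup.eq_of_le_of_card_ge hle ?_
        rw [Nat.card_zpowers, Nat.card_zpowers, hmo, hx]
      have hxm : x ∈ zpowers m := by
        rw [heq]
        exact mem_zpowers x
      obtain ⟨i, hi⟩ := ((isOfFinOrder_of_finite m).mem_powers_iff_mem_zpowers).2 hxm
      apply hσx1
      have hi' : m ^ i = x := hi
      rw [← hi', map_pow, hσm, one_pow]
    have hzx' : z = x := by
      rw [hm] at hm1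
      exact mul_inv_eq_one.1 hm1
    rw [hz] at hzx'
    calc g * x = g * x * g⁻¹ * g := by group
      _ = x * g := by rw [hzx']

end Quad

section Red

/-- Square roots in the residue field. -/
lemma residue_exists_sqrt (O : ValuationSubring ℂ) (a : IsLocalRing.ResidueField O) :
    ∃ b, b * b = a := by
  obtain ⟨a', rfl⟩ := IsLocalRing.residue_surjective a
  obtain ⟨z, hz⟩ := IsAlgClosed.exists_eq_mul_self (a' : ℂ)
  have hzO : z ∈ O := by
    by_contra h
    have hi := (O.mem_or_inv_mem z).resolve_left h
    have hz0 : z ≠ 0 := by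
      rintro rfl
      exact h O.zero_mem
    have h1 : z = a' * z⁻¹ := by
      rw [hz]
      field_simp
    rw [h1] at h
    exact h (O.mul_mem _ _ a'.2 hi)
  refine ⟨IsLocalRing.residue O ⟨z, hzO⟩, ?_⟩
  rw [← map_mul]
  congr 1
  exact Subtype.ext hz.symm

variable {Γ : Type*} [Group Γ] [Finite Γ] {n p : ℕ} [hp : Fact p.Prime]

/-- The reduction of a faithful representation is faithful, if `⟨x⟩` is not normal. -/
theorem red_injective (O : ValuationSubring ℂ) (hpO : (p : ℂ) ∈ O.nonunits)
    (R : Γ →* Matrix (Fin n) (Fin n) ℂ) (hinj : Function.Injective R)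
    (B : Matrix (Fin n) (Fin n) ℂ) (hdet : B.det ≠ 0) (A : Γ →* Matrix (Fin n) (Fin n) O)
    (hA : ∀ g, (A g).map Subtype.val = B⁻¹ * R g * B) {x : Γ} (hx : orderOf x = p)
    (hsq : ¬ p ^ 2 ∣ Nat.card Γ) (hnn : ¬ (zpowers x).Normal) :
    Function.Injective (redHom O A) := by
  classical
  haveI := charP_residue O p hpO
  set res := IsLocalRing.residue O with hres
  set K := (redHom O A).ker with hK
  have hB1 : IsUnit B.det := isUnit_iff_ne_zero.2 hdet
  have step1 : ∀ h ∈ K, ¬ p ∣ orderOf h → h = 1 := by
    intro h hh hph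
    set m := orderOf h with hm
    set a := A h with ha
    have ham : a ^ m = 1 := by
      rw [ha, ← map_pow, hm, pow_orderOf_eq_one, map_one]
    set S : Matrix (Fin n) (Fin n) O := ∑ i ∈ Finset.range m, a ^ i with hS
    have hSa : S * (a - 1) = 0 := by
      rw [hS, geom_sum_mul, ham, sub_self]
    have hared : res.mapMatrix a = 1 := by
      have h1 : redHom O A h = 1 := hh
      exact h1
    have hSred : res.mapMatrix S = (m : IsLocalRing.ResidueField O) • (1 : Matrix (Fin n) (Fin n) (IsLocalRing.ResidueField O)) := by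
      rw [hS, map_sum]
      simp only [map_pow, hared, one_pow]
      rw [Finset.sum_const, Finset.card_range, Nat.cast_smul_eq_nsmul]
    have hdetS : IsUnit S.det := by
      rw [← IsLocalRing.residue_ne_zero_iff_isUnit]
      rw [RingHom.map_det, hSred, Matrix.det_smul, Matrix.det_one, mul_one]
      apply pow_ne_zero
      intro h0
      exact hph ((CharP.cast_eq_zero_iff (IsLocalRing.ResidueField O) p m).1 h0)
    have hSu : IsUnit S := (Matrix.isUnit_iff_isUnit_det S).2 hdetS
    have ha1 : a - 1 = 0 := (hSu.mul_right_eq_zero).1 hSa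
    have ha2 : A h = 1 := sub_eq_zero.1 ha1
    have h3 := hA h
    rw [ha2] at h3
    have h4 : (1 : Matrix (Fin n) (Fin n) O).map Subtype.val = (1 : Matrix (Fin n) (Fin n) ℂ) := by
      ext i j
      simp [Matrix.one_apply, apply_ite]
    rw [h4] at h3
    have h5 : R h = 1 := by
      have h6 : B * (B⁻¹ * R h * B) * B⁻¹ = R h := by
        rw [Matrix.mul_assoc, Matrix.mul_assoc, Matrix.mul_nonsing_inv _ hB1, Matrix.mul_one,
          ← Matrix.mul_assoc, Matrix.mul_nonsing_inv _ hB1, Matrix.one_mul]
      rw [← h6, ← h3, Matrix.mul_one, Matrix.mul_nonsing_inv _ hB1]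
    apply hinj
    rw [h5, map_one]
  have hKp : IsPGroup p K := by
    intro g
    have hne : orderOf g.1 ≠ 0 := (orderOf_pos g.1).ne'
    obtain ⟨e, m', hm', hmm⟩ := Nat.exists_eq_pow_mul_and_not_dvd hne p hp.out.one_lt.ne'
    refine ⟨e, Subtype.ext ?_⟩
    show g.1 ^ p ^ e = 1
    apply step1 _ (K.pow_mem g.2 _)
    intro hd
    apply hm'
    have h1 : (g.1 ^ p ^ e) ^ m' = 1 := by
      rw [← pow_mul, ← hmm, pow_orderOf_eq_one]
    exact hd.trans (orderOf_dvd_of_pow_eq_one h1)
  haveI hKn : K.Normal := MonoidHom.normal_ker _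
  have hxP : IsPGroup p (zpowers x) := by
    rw [IsPGroup.iff_card]
    exact ⟨1, by rw [Nat.card_zpowers, hx, pow_one]⟩
  have hsup : IsPGroup p (K ⊔ zpowers x : Subgroup Γ) := hKp.to_sup_of_normal_left hxP
  have h1 := eq_zpowers_of_isPGroup hx hsq hsup le_sup_right
  have hKle : K ≤ zpowers x := by
    rw [h1]
    exact le_sup_left
  have hKbot : K = ⊥ := by
    by_contra hne
    apply hnn
    have hcard : Nat.card K ∣ p := by
      have := Subgroup.card_dvd_of_le hKle
      rwa [Nat.card_zpowers, hx] at this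
    rcases (Nat.dvd_prime hp.out).1 hcard with h2 | h2
    · exact absurd (Subgroup.eq_bot_of_card_eq K h2) hne
    · have h3 : K = zpowers x := by
        refine Subgroup.eq_of_le_of_card_ge hKle ?_
        rw [h2, Nat.card_zpowers, hx]
      rw [← h3]
      exact hKn
  exact (MonoidHom.ker_eq_bot_iff _).1 hKbot

end Red

end Cfsg.Agent.Lib.BrauerTuan
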